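import Cfsg.Agent.Lib.TH2.Core
import Cfsg.Agent.Lib.TH2.Rel
import Cfsg.Agent.Lib.TwMult.Levi

/-!
# Groups with relative root system of type `G₂`
-/

set_option autoImplicit false
set_option linter.unusedSectionVars false

namespace CfsgLib.TH2

open CfsgLib.RGD CfsgLib.Twist CfsgLib.TwMult CfsgLib.LieMult CfsgLib.Chev CfsgLib.Classical
open scoped commutatorElement MatrixGroups

/-- the double cosets in the dihedral group of order twelve -/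
def Dc {W : Type*} [Group W] (s t w : W) : Prop := ∃ x, (x = 1 ∨ x = t) ∧ ∃ y, (y = 1 ∨ y = t) ∧
  ∃ d, (d = 1 ∨ d = s ∨ d = s * t * s * t ∨ d = s * t * s * t * s) ∧ w = x * d * y

theorem Dc.mul {W : Type*} [Group W] {s t w : W} (hs : s * s = 1) (ht : t * t = 1)
    (hb : s * t * s * t * s * t * s = t * s * t * s * t) (h : Dc s t w) : Dc s t (w * s) ∧ Dc s t (w * t) := by
  have hs' : ∀ g, s * (s * g) = g := fun g => by rw [← mul_assoc, hs, one_mul]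
  have ht' : ∀ g, t * (t * g) = g := fun g => by rw [← mul_assoc, ht, one_mul]
  obtain ⟨x, hx, y, hy, d, hd, rfl⟩ := h
  have hx' : x * t = 1 ∨ x * t = t := by rcases hx with rfl | rfl <;> simp [ht]
  refine ⟨?_, x, hx, y * t, by rcases hy with rfl | rfl <;> simp [ht], d, hd, mul_assoc _ _ _⟩
  rcases hy with hy | hy <;> rcases hd with hd | hd | hd | hd <;> rw [hy, hd]
  · exact ⟨x, hx, 1, by simp, s, by simp, by simp⟩
  · exact ⟨x, hx, 1, by simp, 1, by simp, by simp [mul_assoc, hs]⟩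
  · exact ⟨x, hx, 1, by simp, s * t * s * t * s, by simp, by simp [mul_assoc]⟩
  · exact ⟨x, hx, 1, by simp, s * t * s * t, by simp, by simp [mul_assoc, hs]⟩
  · exact ⟨x * t, hx', 1, by simp, s, by simp, by simp⟩
  · exact ⟨x, hx, t, by simp, s * t * s * t, by simp, by simp [mul_assoc, ht]⟩
  · exact ⟨x, hx, t, by simp, s, by simp, by simp [mul_assoc, ht', hs]⟩
  · exact ⟨x * t, hx', 1, by simp, s * t * s * t, by simp, by
      rw [mul_assoc x, mul_assoc x, hb]; simp [mul_assoc]⟩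

theorem slW_gauss {F : Type*} [Field F] (c : Fˣ) :
    (slW : SL(2, F)) = slX (c : F) * slY (-(c : F)⁻¹) * sl2Diag c * slX (c : F)⁻¹ := by
  ext i j
  fin_cases i <;> fin_cases j <;>
    simp [slW_val, slX_val, slY_val, sl2Diag_coe, Matrix.mul_apply, Fin.sum_univ_two]

theorem xyx {F : Type*} [Field F] (c : Fˣ) :
    slX (c : F) * slY (-(c : F)⁻¹) * slX (c : F) = sl2Diag c * slW := by
  ext i j
  fin_cases i <;> fin_cases j <;>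
    simp [slW_val, slX_val, slY_val, sl2Diag_coe, Matrix.mul_apply, Fin.sum_univ_two]

section

variable {F : Type*} [Field F] {G : Type*} [Group G]

/-- the product of a subgroup and a subgroup normalising it -/
def prod (A T : Subgroup G) (h : ∀ s ∈ T, ∀ a ∈ A, s * a * s⁻¹ ∈ A) : Subgroup G where
  carrier := {l | ∃ a ∈ A, ∃ s ∈ T, l = a * s}
  one_mem' := ⟨1, one_mem _, 1, one_mem _, (one_mul _).symm⟩
  mul_mem' := by
    rintro _ _ ⟨a, ha, s, hs, rfl⟩ ⟨b, hb, t, ht, rfl⟩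
    exact ⟨_, mul_mem ha (h s hs b hb), _, mul_mem hs ht, by group⟩
  inv_mem' := by
    rintro _ ⟨a, ha, s, hs, rfl⟩
    exact ⟨_, h _ (inv_mem hs) _ (inv_mem ha), _, inv_mem hs, by group⟩

theorem le_prod_left {A T : Subgroup G} {h : ∀ s ∈ T, ∀ a ∈ A, s * a * s⁻¹ ∈ A} {a : G} (ha : a ∈ A) :
    a ∈ prod A T h := ⟨a, ha, 1, one_mem _, (mul_one _).symm⟩

theorem le_prod_right {A T : Subgroup G} {h : ∀ s ∈ T, ∀ a ∈ A, s * a * s⁻¹ ∈ A} {a : G} (ha : a ∈ T) :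
    a ∈ prod A T h := ⟨1, one_mem _, a, ha, (one_mul _).symm⟩

theorem comm_aux {n m x y d x' a b a' : G} (e1 : n = x * y * d * x') (e2 : m = a * b * a')
    (c1 : Commute n a) (c2 : Commute n b) (c3 : Commute x b) :
    n * m = a * x * (b * y) * d * (x' * a') := by
  rw [e2, ← mul_assoc, (c1.mul_right c2).eq, e1, mul_assoc a x, ← mul_assoc x b, c3.eq]
  simp only [mul_assoc]

theorem Cell.mul {Q Q' : Subgroup G} {σ n l : G} (c : Cell Q Q' σ n) (hl : ∀ q ∈ Q, l⁻¹ * q * l⁻¹⁻¹ ∈ Q) :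
    Cell Q Q' (σ * l) (n * l) := by
  obtain ⟨u, hu, v, hv, u', hu', e1⟩ := c
  exact ⟨u, hu, v, hv, _, hl _ hu', by rw [e1]; group⟩

end

/-- the coefficient of the short fundamental root -/
def cm (x : Fin 12) : ℤ := [0, 1, 3, 2, 3, 1, 0, -1, -3, -2, -3, -1].getD x 0

/-- the coefficient of the long fundamental root -/
def cn (x : Fin 12) : ℤ := [1, 1, 2, 1, 1, 0, -1, -1, -2, -1, -1, 0].getD x 0

/-- the sums of roots of `G₂` -/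
def rs12 (x y z : Fin 12) : Bool := [(1 : ℤ), 2, 3].any fun a => [(1 : ℤ), 2, 3].any fun b =>
  cm z == a * cm x + b * cm y && cn z == a * cn x + b * cn y

theorem rs12_of {x y z : Fin 12} {a b : ℤ} (ha : 0 < a) (hb : 0 < b) (h : y ≠ x + 6)
    (h1 : cm z = a * cm x + b * cm y) (h2 : cn z = a * cn x + b * cn y) : rs12 x y z = true := by
  have k : ∀ x y z : Fin 12, y ≠ x + 6 → (y = x ∧ (cm x * cm x - 3 * cm x * cn x + 3 * cn x * cn x) * 4 >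
      cm z * cm z - 3 * cm z * cn z + 3 * cn z * cn z) ∨ 0 < (cm x * cn y - cm y * cn x) ^ 2 ∧
        (cm z * cn y - cm y * cn z) ^ 2 ≤ 9 ∧ (cm x * cn z - cm z * cn x) ^ 2 ≤ 9 := by decide +kernel
  have k3 : ∀ {a d : ℤ}, 0 < a → 0 < d ^ 2 → (a * d) ^ 2 ≤ 9 → a = 1 ∨ a = 2 ∨ a = 3 := fun {a d} h0 h1 h2 => by
    have : a * a ≤ 9 := by nlinarith
    have : a < 4 := by nlinarith
    omega
  rcases k x y z h with ⟨rfl, k1⟩ | ⟨k0, k1, k2⟩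
  · exfalso
    have k4 := (by decide : ∀ y, 0 < cm y * cm y - 3 * cm y * cn y + 3 * cn y * cn y) y
    rw [h1, h2] at k1
    have : 4 ≤ (a + b) * (a + b) := by nlinarith
    nlinarith
  · have e1 := k3 ha k0 (by rw [h1, h2] at k1; convert k1 using 2; ring)
    have e2 := k3 hb k0 (by rw [h1, h2] at k2; convert k2 using 2; ring)
    simp only [rs12, List.any_eq_true, Bool.and_eq_true, beq_iff_eq]
    exact ⟨a, by simpa using e1, b, by simpa using e2, h1, h2⟩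

variable {ι κ B : Type} [Fintype κ] [DecidableEq κ] {Φ : RootSys ι κ}

theorem rr12 {ρ : ι → Fin 12} (i : κ) (h1 : ∀ r, ∑ j, Φ.rt r j = cm (ρ r) + cn (ρ r))
    (h2 : ∀ r, Φ.rt r i = cn (ρ r)) (h3 : ∀ r, ρ (Φ.neg r) = ρ r + 6)
    (h4 : ∀ r, Φ.Pos r ↔ ρ r ∈ [0, 1, 2, 3, 4, 5]) : RR Φ ρ (· + 6) rs12 [0, 1, 2, 3, 4, 5] where
  neg := h3
  pos := h4
  sum r s k := by
    rintro ⟨a, b, ha, hb, e⟩ h
    have e1 : ∑ j, Φ.rt k j = a * ∑ j, Φ.rt r j + b * ∑ j, Φ.rt s j := by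
      simp only [e, Finset.sum_add_distrib, Finset.mul_sum]
    have e2 := e i
    rw [h1, h1, h1] at e1
    rw [h2, h2, h2] at e2
    exact rs12_of (a := a) (b := b) (by exact_mod_cast ha) (by exact_mod_cast hb) h (by linarith) e2

variable {K : Type*} [Field K] {G : Type*} [Group G] {S : StSys Φ K G} [Finite ι]
  {F K' : Type*} [Field F] [Field K']

/-- the data of a group of type `G₂` or `³D₄` -/
structure Hex (T : Tw S B) (M : Subgroup G) (a b : B) (i : κ) (ρ : ι → Fin 12) (e : F →+* K)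
    (ψ : SL(2, F) →* M) (φ : SL(2, K') →* M) : Prop where
  tw : IsTw T M
  nd : S.Nondeg
  rr : RR Φ ρ (· + 6) rs12 [0, 1, 2, 3, 4, 5]
  all : ∀ c, c = a ∨ c = b
  Jb : ∀ r, r ∈ posJ Φ (T.J b) ↔ ρ r = 0
  Ja : ∀ r, r ∈ posJ Φ (T.J a) ↔ ρ r = 5
  sa : ∀ r, ρ (T.sw a r) = 4 - ρ r
  sb : ∀ r, ρ (T.sw b r) = 6 - ρ r
  w0 : ∀ r, T.sw a (T.sw b (T.sw a (T.sw b (T.sw a (T.sw b r))))) = Φ.neg r
  ht : ∀ r, ∑ j, Φ.wt j r = cm (ρ r) - cn (ρ r)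
  i0 : ρ (Φ.simple i) = 0
  rψ : Rk T M b (sl2RankOne F) ψ
  rφ : Rk T M a (sl2RankOne K') φ
  ψx : ∀ t, (ψ (slX t) : G) = S.x (Φ.simple i) (e t)
  ψy : ∀ t, (ψ (slY t) : G) = S.x (Φ.neg (Φ.simple i)) (e t)
  act : ∀ d : M, (d : G) ∈ S.H → ∃ c : Fˣ, ∀ g, d * ψ g * d⁻¹ = ψ (sl2Conj c g)
  fe : ∀ j u, T.f j (e u) = e u
  hH : S.H ⊓ T.Fix ≤ M
  tor : ∀ h : M, (h : G) ∈ S.H → ∃ u v, h = ψ (sl2Diag u) * φ (sl2Diag v)
  simple : IsSimpleGroup M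

namespace Hex

variable {T : Tw S B} {M : Subgroup G} {a b : B} {i : κ} {ρ : ι → Fin 12} {e : F →+* K}
  {ψ : SL(2, F) →* M} {φ : SL(2, K') →* M} (h : Hex T M a b i ρ e ψ φ)
include h

theorem negJ_iff {J : Set κ} {x : Fin 12} (hJ : ∀ r, r ∈ posJ Φ J ↔ ρ r = x) (r : ι) :
    r ∈ negJ Φ J ↔ ρ r = x + 6 := by
  have : r ∈ negJ Φ J ↔ Φ.neg r ∈ posJ Φ J := and_congr Φ.pos_neg_iff.symm Φ.inSub_neg_iff.symm
  rw [this, hJ, h.rr.neg]
  exact (by decide : ∀ x y : Fin 12, y + 6 = x ↔ y = x + 6) _ _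

theorem xa (t : K') : (φ (slX t) : G) ∈ Z S ρ [5] :=
  S.UU_mono (fun r hr => by simpa using (h.Ja r).1 hr) (h.rφ.U.ge ⟨_, slX_mem t, rfl⟩)

theorem ya (t : K') : (φ (slY t) : G) ∈ Z S ρ [11] :=
  S.UU_mono (fun r hr => by simpa using (h.negJ_iff h.Ja r).1 hr) (h.rφ.V.ge ⟨_, slY_mem t, rfl⟩)

theorem xb (t : F) : (ψ (slX t) : G) ∈ Z S ρ [0] :=
  S.UU_mono (fun r hr => by simpa using (h.Jb r).1 hr) (h.rψ.U.ge ⟨_, slX_mem t, rfl⟩)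

theorem yb (t : F) : (ψ (slY t) : G) ∈ Z S ρ [6] :=
  S.UU_mono (fun r hr => by simpa using (h.negJ_iff h.Jb r).1 hr) (h.rψ.V.ge ⟨_, slY_mem t, rfl⟩)

theorem ex_xb {g : M} (hg : (g : G) ∈ Z S ρ [0]) : ∃ t, g = ψ (slX t) := by
  obtain ⟨_, ⟨t, rfl⟩, e1⟩ := h.rψ.U.le (x := g) (S.UU_mono (fun r hr => (h.Jb r).2 (by simpa using hr)) hg)
  exact ⟨t, e1.symm⟩

theorem ex_yb {g : M} (hg : (g : G) ∈ Z S ρ [6]) : ∃ t, g = ψ (slY t) := by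
  obtain ⟨_, ⟨t, rfl⟩, e1⟩ := h.rψ.V.le (x := g)
    (S.UU_mono (fun r hr => (h.negJ_iff h.Jb r).2 (by simpa using hr)) hg)
  exact ⟨t, e1.symm⟩

theorem φ_mem (g : SL(2, K')) : (φ g : G) ∈ Z S ρ [5, 11] :=
  sl2_le (χ := M.subtype.comp φ) (fun t => Z_mono (by decide) (h.xa t)) (fun t => Z_mono (by decide) (h.ya t)) g

theorem ψ_mem (g : SL(2, F)) : (ψ g : G) ∈ Z S ρ [0, 6] :=
  sl2_le (χ := M.subtype.comp ψ) (fun t => Z_mono (by decide) (h.xb t)) (fun t => Z_mono (by decide) (h.yb t)) g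

theorem aa : S.Acts (φ slW : G) (T.sw a) := h.rφ.n_acts

theorem ab : S.Acts (ψ slW : G) (T.sw b) := h.rψ.n_acts

theorem na : (φ slW : G) ∈ S.N := h.rφ.n_mem

theorem nb : (ψ slW : G) ∈ S.N := h.rψ.n_mem

theorem ca {A C : List (Fin 12)} (o : ∀ x ∈ A, 4 - x ∈ C) {u : G} (hu : u ∈ Z S ρ A) :
    φ slW * u * (φ slW : G)⁻¹ ∈ Z S ρ C := Z_acts h.aa h.sa o hu

theorem cb {A C : List (Fin 12)} (o : ∀ x ∈ A, 6 - x ∈ C) {u : G} (hu : u ∈ Z S ρ A) :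
    ψ slW * u * (ψ slW : G)⁻¹ ∈ Z S ρ C := Z_acts h.ab h.sb o hu

theorem ai : S.Acts (φ slW : G)⁻¹ (T.sw a) := T.sw_inv a ▸ acts_inv' (T.sw_mem a).1 h.aa

theorem bi : S.Acts (ψ slW : G)⁻¹ (T.sw b) := T.sw_inv b ▸ acts_inv' (T.sw_mem b).1 h.ab

theorem cai {A C : List (Fin 12)} (o : ∀ x ∈ A, 4 - x ∈ C) {u : G} (hu : u ∈ Z S ρ A) :
    (φ slW : G)⁻¹ * u * (φ slW : G)⁻¹⁻¹ ∈ Z S ρ C := Z_acts h.ai h.sa o hu

theorem cbi {A C : List (Fin 12)} (o : ∀ x ∈ A, 6 - x ∈ C) {u : G} (hu : u ∈ Z S ρ A) :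
    (ψ slW : G)⁻¹ * u * (ψ slW : G)⁻¹⁻¹ ∈ Z S ρ C := Z_acts h.bi h.sb o hu

theorem range_norm : ∀ s ∈ S.H.subgroupOf M, ∀ g ∈ ψ.range, s * g * s⁻¹ ∈ ψ.range := by
  rintro s hs _ ⟨m, rfl⟩
  obtain ⟨c, hc⟩ := h.act s hs
  exact ⟨_, (hc m).symm⟩

/-- the Levi subgroup -/
def L : Subgroup M := prod ψ.range (S.H.subgroupOf M) h.range_norm

theorem ψL (m : SL(2, F)) : ψ m ∈ h.L := le_prod_left ⟨m, rfl⟩

theorem HL {s : M} (hs : (s : G) ∈ S.H) : s ∈ h.L := le_prod_right hs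

theorem norm {A : List (Fin 12)} (o : OK (· + 6) rs12 [0, 6] A A) : ∀ l ∈ h.L,
    ∀ q ∈ (Z S ρ A).subgroupOf M, l * q * l⁻¹ ∈ (Z S ρ A).subgroupOf M := by
  rintro _ ⟨_, ⟨m, rfl⟩, s, hs, rfl⟩ q hq
  have := h.rr.conj o (h.ψ_mem m) (Z_H (u := (q : G)) hs hq)
  rw [Subgroup.mem_subgroupOf]
  simpa [mul_assoc] using this

theorem dψ (u : Fˣ) : (ψ (sl2Diag u) : G) ∈ S.H := h.rψ.T _ ⟨u, rfl⟩

theorem dφ (u : K'ˣ) : (φ (sl2Diag u) : G) ∈ S.H := h.rφ.T _ ⟨u, rfl⟩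

theorem braid : T.sw a * T.sw b * T.sw a * T.sw b * T.sw a * T.sw b =
    T.sw b * T.sw a * T.sw b * T.sw a * T.sw b * T.sw a := by
  have : T.sw a * T.sw b * T.sw a * T.sw b * T.sw a * T.sw b *
      (T.sw a * T.sw b * T.sw a * T.sw b * T.sw a * T.sw b) = 1 :=
    Equiv.ext fun r => by simp only [Equiv.Perm.mul_apply, h.w0, Φ.neg_neg, Equiv.Perm.one_apply]
  rw [eq_inv_of_mul_eq_one_left this]
  simp only [mul_inv_rev, Sym.sw_inv, mul_assoc]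

theorem dc {w : Equiv.Perm ι} (hw : w ∈ T.W1) : Dc (T.sw a) (T.sw b) w :=
  T.W1_induction (p := Dc (T.sw a) (T.sw b)) ⟨1, Or.inl rfl, 1, Or.inl rfl, 1, Or.inl rfl, by simp⟩
    (fun v _ c _ hv => by
      have := hv.mul (T.sw_mul_self a) (T.sw_mul_self b) (by
        rw [h.braid, mul_assoc _ (T.sw a), T.sw_mul_self, mul_one])
      rcases h.all c with rfl | rfl
      exacts [this.1, this.2]) hw

local notation "Q" => Subgroup.subgroupOf (Z S ρ [1, 2, 3, 4, 5]) M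
local notation "Q'" => Subgroup.subgroupOf (Z S ρ [7, 8, 9, 10, 11]) M
local notation "ee" => φ slW * ψ slW * φ slW * (φ slW * ψ slW)⁻¹

theorem nQ : ∀ l ∈ h.L, ∀ q ∈ Q, l * q * l⁻¹ ∈ Q := h.norm (by decide)

theorem nQ' : ∀ l ∈ h.L, ∀ q ∈ Q', l * q * l⁻¹ ∈ Q' := h.norm (by decide)

/-- the parabolic subgroup -/
def P : Subgroup M := prod Q h.L h.nQ

theorem U_le_P {u : M} (hu : (u : G) ∈ S.U) : u ∈ h.P := by
  obtain ⟨x, hx, c, hc, e1⟩ := T.exists_rad_mul_fix h.tw.sharp b hu (h.tw.le_fix u.2)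
  obtain ⟨_, ht, e2⟩ := h.rψ.U.le (x := ⟨c, h.tw.posJ_le b hc⟩) hc.1
  obtain ⟨t, rfl⟩ := mem_slU.1 ht
  refine ⟨u * (ψ (slX t))⁻¹, ?_, _, h.ψL (slX t), by group⟩
  rw [Subgroup.mem_subgroupOf, e2]
  simp only [Subgroup.coe_mul, Subgroup.coe_inv, e1, mul_inv_cancel_right]
  refine S.UU_mono (fun r hr => ?_) hx.1
  exact (by decide : ∀ x : Fin 12, x ∈ [0, 1, 2, 3, 4, 5] → x ≠ 0 → x ∈ [1, 2, 3, 4, 5]) _
    ((h.rr.pos r).1 hr.1) fun e3 => hr.2 ((h.Jb r).2 e3).2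

theorem core {g : M} (hg : g ≠ 1) : ∃ k, k * g * k⁻¹ ∉ h.P := by
  by_contra hc
  push Not at hc
  rcases h.simple.eq_bot_or_eq_top_of_normal h.P.normalCore inferInstance with e1 | e1
  · exact hg (Subgroup.mem_bot.1 (e1 ▸ hc))
  obtain ⟨q, hq, l, hl, e2⟩ : φ slW ∈ h.P := h.P.normalCore_le (e1 ▸ Subgroup.mem_top _)
  obtain ⟨v, hv, h1, h2⟩ := h.tw.exists_neg a
  obtain ⟨_, ht, e3⟩ := h.rφ.V.le (x := ⟨v, hv⟩) h1
  obtain ⟨t, rfl⟩ := mem_slV.1 ht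
  have h3 : φ (slY t) ∈ Q := by
    have := mul_mem (mul_mem hq (h.nQ l hl (φ (slX (-t))) (Z_mono (by decide) (h.xa _)))) (inv_mem hq)
    rw [← neg_neg t, ← slW_conj_slX (-t), map_mul, map_mul, map_inv, e2]
    convert this using 1
    group
  rw [e3] at h3
  exact h2 (h.tw.sharp.eq_one_of_mem_B_V (S.U_le_B (h.rr.U_eq (S := S) ▸ Z_mono (by decide) h3))
    (UU_negJ_le_V S _ h1))

theorem cell_conj {g : M} (h1 : ∀ t, g * φ (slX t) * g⁻¹ ∈ Q) (h2 : ∀ t, g * φ (slY t) * g⁻¹ ∈ Q')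
    (v : K'ˣ) : Cell Q Q' (g * φ (sl2Diag v) * g⁻¹) (g * φ slW * g⁻¹) :=
  ⟨_, h1 (v : K'), _, h2 (-(v : K')⁻¹), _, h1 (v : K')⁻¹, by
    rw [slW_gauss v]; simp only [map_mul, mul_assoc, inv_mul_cancel_left]⟩

theorem fam {n s : M} (hs : (s : G) ∈ S.H)
    (H : ∀ v, ∃ σ, Cell Q Q' σ n ∧ σ * (φ (sl2Diag v) * s)⁻¹ ∈ ψ.range) :
    ∀ d ∈ S.H.subgroupOf M, ∃ m, Cell Q Q' (ψ m * d) n := fun d hd => by
  obtain ⟨u, v, e1⟩ := h.tor (d * s⁻¹) (mul_mem hd (inv_mem hs))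
  obtain ⟨σ, c, m, e2⟩ := H v
  refine ⟨m * (sl2Diag u)⁻¹, ?_⟩
  rwa [map_mul, map_inv, e2, mul_inv_eq_iff_eq_mul.1 e1, ← mul_assoc, ← mul_assoc, inv_mul_cancel_right,
    mul_assoc, inv_mul_cancel_right]

theorem c1 : ∀ d ∈ S.H.subgroupOf M, ∃ m, Cell Q Q' (ψ m * d) (φ slW) :=
  h.fam (s := 1) (one_mem _) fun v => ⟨_, by
    simpa using h.cell_conj (g := 1) (fun t => by
      rw [one_mul, inv_one, mul_one]; exact Z_mono (by decide) (h.xa t))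
      (fun t => by rw [one_mul, inv_one, mul_one]; exact Z_mono (by decide) (h.ya t)) v, by simp⟩

theorem c2 : ∀ d ∈ S.H.subgroupOf M, ∃ m,
    Cell Q Q' (ψ m * d) (φ slW * ψ slW * φ slW * (ψ slW)⁻¹) :=
  h.fam (s := 1) (one_mem _) fun v => by
    have k1 : ∀ t, ((ψ slW * φ (slX t) * (ψ slW)⁻¹ : M) : G) ∈ Z S ρ [1] := fun t =>
      h.cb (by decide) (h.xa t)
    have k2 : ∀ t, ((ψ slW * φ (slY t) * (ψ slW)⁻¹ : M) : G) ∈ Z S ρ [7] := fun t =>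
      h.cb (by decide) (h.ya t)
    have e1 : ψ slW * φ slW * (ψ slW)⁻¹ = ψ slW * φ (slX 1) * (ψ slW)⁻¹ *
        (ψ slW * φ (slY (-1)) * (ψ slW)⁻¹) * (ψ slW * φ (slX 1) * (ψ slW)⁻¹) := by
      rw [show φ slW = φ (slX 1) * φ (slY (-1)) * φ (slX 1) by simpa using congrArg φ (slW_gauss 1)]
      group
    have k3 := k1 1
    have k4 := k2 (-1)
    generalize ψ slW * φ (slX 1) * (ψ slW)⁻¹ = x at e1 k3
    generalize ψ slW * φ (slY (-1)) * (ψ slW)⁻¹ = y at e1 k4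
    obtain ⟨t, ht⟩ := h.ex_yb (g := ⁅φ (slX (v : K')⁻¹), y⁆)
      (h.rr.comm (by decide) (by decide) (by decide) (h.xa _) k4)
    refine ⟨φ (sl2Diag v) * ψ (slY t), ⟨φ slW * x * (φ slW)⁻¹ * φ (slX (v : K')),
      mul_mem (h.ca (by decide) k3) (Z_mono (by decide) (h.xa _)),
      φ (slY (-(v : K')⁻¹)) * (φ (sl2Diag v) * ψ (slY t) * y * (φ (sl2Diag v) * ψ (slY t))⁻¹),
      mul_mem (Z_mono (by decide) (h.ya _))
        (h.nQ' _ (mul_mem (h.HL (h.dφ v)) (h.ψL _)) _ (Z_mono (by decide) k4)),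
      φ (slX (v : K')⁻¹) * x, mul_mem (Z_mono (by decide) (h.xa _)) (Z_mono (by decide) k3), ?_⟩,
      by simpa using h.range_norm _ (h.dφ v) _ ⟨slY t, rfl⟩⟩
    have e2 := congrArg φ (slW_gauss v)
    simp only [map_mul] at e2
    calc _ = φ slW * (ψ slW * φ slW * (ψ slW)⁻¹) := by group
      _ = φ slW * x * (φ slW)⁻¹ * φ slW * y * x := by rw [e1]; group
      _ = _ := by nth_rw 3 [e2]; rw [← ht, commutatorElement_def]; group

theorem acts_e : S.Acts ((ee : M) : G) (T.sw a * T.sw b * T.sw a * T.sw b * T.sw a) := by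
  have := acts_mul' (T.sw_mem a).1 (acts_mul' (T.sw_mem b).1 (acts_mul' (T.sw_mem a).1
    (acts_mul' (T.sw_mem b).1 h.aa h.ab) h.aa) h.bi) h.ai
  simpa [mul_assoc] using this

theorem e_mem : ((ee : M) : G) ∈ S.N :=
  mul_mem (mul_mem (mul_mem h.na h.nb) h.na) (inv_mem (mul_mem h.na h.nb))

theorem c3 : ∃ s : M, (s : G) ∈ S.H ∧
    ∀ v, Cell Q Q' (ψ slW * φ (sl2Diag v) * (ψ slW)⁻¹ * (s * (ψ slW)⁻¹)) ee := by
  have hW := fun c => (T.sw_mem c).1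
  have k1 : S.Acts ((ψ slW * φ slW * (ψ slW)⁻¹ * (φ slW * ψ slW * (φ slW)⁻¹) : M) : G)
      (T.sw a * T.sw b * T.sw a * T.sw b * T.sw a * T.sw b) := by
    have := acts_mul' (hW a) (acts_mul' (hW b) (acts_mul' (hW a) (acts_mul' (hW b)
      (acts_mul' (hW a) h.ab h.aa) h.bi) h.aa) h.ab) h.ai
    rw [h.braid]
    simpa [mul_assoc] using this
  have k2 : (((ψ slW * φ slW * (ψ slW)⁻¹ * (φ slW * ψ slW * (φ slW)⁻¹))⁻¹ * (ee * ψ slW) : M) : G) ∈ S.H :=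
    h.tw.sharp.inv_mul_mem_H (mul_mem (mul_mem (mul_mem h.nb h.na) (inv_mem h.nb))
      (mul_mem (mul_mem h.na h.nb) (inv_mem h.na))) (mul_mem h.e_mem h.nb)
      (mul_mem (mul_mem (mul_mem (mul_mem (mul_mem (hW a) (hW b)) (hW a)) (hW b)) (hW a)) (hW b)) k1
      (acts_mul' (hW b) h.acts_e h.ab)
  refine ⟨_, k2, fun v => ?_⟩
  have k3 : Cell Q Q' (ψ slW * φ (sl2Diag v) * (ψ slW)⁻¹)
      (ψ slW * φ slW * (ψ slW)⁻¹ * (φ slW * ψ slW * (φ slW)⁻¹)) := by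
    have c : ∀ g m, Commute (ψ slW * φ g * (ψ slW)⁻¹) (φ slW * ψ m * (φ slW)⁻¹) := fun g m =>
      Subtype.ext (h.rr.commute (A := [1, 7]) (B := [4, 10]) (by decide) (h.cb (by decide) (h.φ_mem g))
        (h.ca (by decide) (h.ψ_mem m))).eq
    have e1 : φ slW * ψ slW * (φ slW)⁻¹ = φ slW * ψ (slX 1) * (φ slW)⁻¹ *
        (φ slW * ψ (slY (-1)) * (φ slW)⁻¹) * (φ slW * ψ (slX 1) * (φ slW)⁻¹) := by
      rw [show ψ slW = ψ (slX 1) * ψ (slY (-1)) * ψ (slX 1) by simpa using congrArg ψ (slW_gauss 1)]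
      group
    have e2 : ψ slW * φ slW * (ψ slW)⁻¹ = ψ slW * φ (slX (v : K')) * (ψ slW)⁻¹ *
        (ψ slW * φ (slY (-(v : K')⁻¹)) * (ψ slW)⁻¹) * (ψ slW * φ (sl2Diag v) * (ψ slW)⁻¹) *
        (ψ slW * φ (slX (v : K')⁻¹) * (ψ slW)⁻¹) := by
      rw [slW_gauss v]; simp only [map_mul, mul_assoc, inv_mul_cancel_left]
    refine ⟨φ slW * ψ (slX 1) * (φ slW)⁻¹ * (ψ slW * φ (slX (v : K')) * (ψ slW)⁻¹),
      mul_mem (h.ca (by decide) (h.xb _)) (h.cb (by decide) (h.xa _)),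
      φ slW * ψ (slY (-1)) * (φ slW)⁻¹ * (ψ slW * φ (slY (-(v : K')⁻¹)) * (ψ slW)⁻¹),
      mul_mem (h.ca (by decide) (h.yb _)) (h.cb (by decide) (h.ya _)),
      ψ slW * φ (slX (v : K')⁻¹) * (ψ slW)⁻¹ * (φ slW * ψ (slX 1) * (φ slW)⁻¹),
      mul_mem (h.cb (by decide) (h.xa _)) (h.ca (by decide) (h.xb _)), ?_⟩
    exact comm_aux e2 e1 (c _ _) (c _ _) (c _ _)
  have := k3.mul (h.nQ _ (inv_mem (mul_mem (h.HL k2) (inv_mem (h.ψL slW)))))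
  convert this using 1
  group

theorem cells {g : M} (hg : g ≠ 1) : ∃ k n, ∃ l ∈ h.L, ∃ q ∈ Q, k * g * k⁻¹ = n * l * q ∧ (n = ee ∨
    (∀ d ∈ S.H.subgroupOf M, ∃ m, Cell Q Q' (ψ m * d) n) ∧ ∀ c, n⁻¹ * ψ (slX c) * n ∈ Q) := by
  have hW := fun c => (T.sw_mem c).1
  obtain ⟨k, hk⟩ := h.core hg
  obtain ⟨u, hu, n, hn, w, hw, ha, u', hu', e1⟩ := h.tw.bruhat (k * g * k⁻¹).2
  obtain ⟨x, hx, y, hy, d, hd, rfl⟩ := h.dc hw
  have k1 : ∀ x, x = 1 ∨ x = T.sw b → ∃ X ∈ h.P, (X : G) ∈ S.N ∧ S.Acts X x ∧ x ∈ Φ.W := by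
    rintro x (rfl | rfl)
    exacts [⟨1, one_mem _, one_mem _, acts_one, one_mem _⟩, ⟨_, le_prod_right (h.ψL slW), h.nb, h.ab, hW b⟩]
  obtain ⟨X, hX, X1, X2, -⟩ := k1 x hx
  obtain ⟨Y, hY, Y1, Y2, Y3⟩ := k1 y hy
  obtain ⟨D, D1, D2, D3, hD⟩ : ∃ D : M, (D : G) ∈ S.N ∧ S.Acts D d ∧ d ∈ Φ.W ∧ (D = 1 ∨ D = ee ∨
      (∀ d ∈ S.H.subgroupOf M, ∃ m, Cell Q Q' (ψ m * d) D) ∧ ∀ c, D⁻¹ * ψ (slX c) * D ∈ Q) := by
    rcases hd with rfl | rfl | rfl | rfl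
    · exact ⟨1, one_mem _, acts_one, one_mem _, Or.inl rfl⟩
    · exact ⟨_, h.na, h.aa, hW a, Or.inr (Or.inr ⟨h.c1, fun c => by
        simpa [Subgroup.mem_subgroupOf] using h.cai (C := [1, 2, 3, 4, 5]) (by decide) (h.xb c)⟩)⟩
    · refine ⟨φ slW * ψ slW * φ slW * (ψ slW)⁻¹, mul_mem (mul_mem (mul_mem h.na h.nb) h.na) (inv_mem h.nb),
        acts_mul' (hW b) (acts_mul' (hW a) (acts_mul' (hW b) h.aa h.ab) h.aa) h.bi,
        mul_mem (mul_mem (mul_mem (hW a) (hW b)) (hW a)) (hW b), Or.inr (Or.inr ⟨h.c2, fun c => ?_⟩)⟩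
      have := h.cb (C := [1, 2, 3, 4, 5]) (by decide) (h.cai (C := [2]) (by decide)
        (h.cbi (C := [2]) (by decide) (h.cai (C := [4]) (by decide) (h.xb c))))
      simpa [mul_assoc, Subgroup.mem_subgroupOf] using this
    · exact ⟨_, h.e_mem, h.acts_e, mul_mem (mul_mem (mul_mem (mul_mem (hW a) (hW b)) (hW a)) (hW b)) (hW a),
        Or.inr (Or.inl rfl)⟩
  let U₁ : M := ⟨u, h.tw.U_le hu⟩
  let U₂ : M := ⟨u', h.tw.U_le ⟨UU_Inv_le_U S _ hu'.1, hu'.2⟩⟩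
  let s : M := (X * D * Y)⁻¹ * ⟨n, hn.2⟩
  have hs : s ∈ h.P := le_prod_right (h.HL (h.tw.sharp.inv_mul_mem_H (mul_mem (mul_mem X1 D1) Y1) hn.1
    hw.1 (acts_mul' Y3 (acts_mul' D3 X2 D2) Y2) ha))
  have h1 : U₁ ∈ h.P := h.U_le_P hu.1
  have h2 : U₂ ∈ h.P := h.U_le_P (UU_Inv_le_U S _ hu'.1)
  have e2 : k * g * k⁻¹ = U₁ * (X * D * Y * s) * U₂ := Subtype.ext (by
    rw [e1, mul_inv_cancel_left]; rfl)
  rcases hD with rfl | hD
  · exact absurd (e2 ▸ mul_mem (mul_mem h1 (mul_mem (mul_mem (mul_mem hX (one_mem _)) hY) hs)) h2) hk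
  obtain ⟨q, hq, l, hl, e3⟩ := mul_mem (mul_mem (mul_mem (mul_mem hY hs) h2) h1) hX
  refine ⟨(U₁ * X)⁻¹ * k, D, l, hl, _, h.nQ _ (inv_mem hl) q hq, ?_, hD⟩
  calc _ = (U₁ * X)⁻¹ * (k * g * k⁻¹) * (U₁ * X) := by group
    _ = D * (Y * s * U₂ * U₁ * X) := by rw [e2]; group
    _ = _ := by rw [e3]; group

theorem exists_Θ : ∃ Θ : Fˣ →* M, (∀ c, (Θ c : G) ∈ S.H) ∧
    (∀ c g, Θ c * ψ g * (Θ c)⁻¹ = ψ (sl2Conj c g)) ∧
      ∀ r, ρ r = 3 → ∀ t, Θ (-1) * S.x r t * (Θ (-1) : G)⁻¹ = S.x r (-1 * t) := by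
  obtain ⟨Θ, hΘ⟩ := exists_hom h.tw.sharp h.hH
    (MonoidHom.pi fun _ : κ => (Units.map (e : F →* K)).comp invMonoidHom) fun c j => (h.fe j _).symm
  have k : ∀ c r t, Θ c * S.x r t * (Θ c : G)⁻¹ = S.x r ((e c)⁻¹ ^ (cm (ρ r) - cn (ρ r)) * t) := fun c r t => by
    rw [(hΘ c).2, ← h.ht]
    congr 2
    exact (congrArg Units.val (chw_const _ r)).trans (by simp)
  refine ⟨Θ, fun c => (hΘ c).1, fun c => HasSL2.conj_ext (fun t => ?_) fun t => ?_, fun r hr t => ?_⟩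
  · rw [h.ψx, h.ψx, k, h.i0]; simp [cm, cn]
  · rw [h.ψy, h.ψy, k, h.rr.neg, h.i0]; simp [cm, cn]
  · rw [k, hr]; simp [cm, cn]

theorem par [Finite K] {Θ : Fˣ →* M} (h1 : ∀ c, (Θ c : G) ∈ S.H)
    (h2 : ∀ c g, Θ c * ψ g * (Θ c)⁻¹ = ψ (sl2Conj c g)) :
    Par ψ Θ (S.H.subgroupOf M) h.L Q Q' ee where
  T_le _ hs := h.HL hs
  ψ_mem := h.ψL
  Θ_mem := h1
  d_mem := h.dψ
  T_comm _ ha _ hb := Subtype.ext (h.tw.sharp.H_comm ha hb)
  dec := by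
    rintro _ ⟨_, ⟨m, rfl⟩, s, hs, rfl⟩
    exact ⟨m, s, hs, rfl⟩
  T_act := h.act
  Θ_act := h2
  nQ := h.nQ
  nQ' := h.nQ'
  e_ψ m := Subtype.ext (h.rr.commute (A := [3, 9]) (B := [0, 6]) (by decide) (by
    simpa [mul_assoc] using h.ca (by decide) (h.cb (C := [1, 7]) (by decide) (h.φ_mem slW))) (h.ψ_mem m)).eq
  e_Q q hq := Z_acts h.acts_e (f := fun x => 4 - (6 - (4 - (6 - (4 - x)))))
    (fun r => by simp only [Equiv.Perm.mul_apply, h.sa, h.sb]) (by decide) hq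
  inv0 s hs := Subtype.ext (h.tw.sharp.conj_eq_inv (mul_mem h.e_mem h.nb)
    (acts_mul' (T.sw_mem b).1 h.acts_e h.ab) h.w0 hs)
  cells _ := h.cells
  odd _ := by
    obtain ⟨s, hs, c⟩ := h.c3
    refine h.fam hs fun v => ⟨_, c v, ?_⟩
    have := mul_mem (mul_mem (show ψ slW ∈ ψ.range from ⟨_, rfl⟩) (h.range_norm _ (h.dφ v) _
      (inv_mem ⟨slW, rfl⟩))) (h.range_norm _ (mul_mem (h.dφ v) hs) _ (inv_mem ⟨slW, rfl⟩))
    convert this using 1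
    group
  even h2 := by
    refine ⟨⟨1, one_mem _, fun _ => Commute.one_left _, ?_⟩, ?_, fun s hs => ?_⟩
    · simpa using h.cell_conj (g := φ slW * ψ slW) (fun t => by
        simpa [mul_assoc, Subgroup.mem_subgroupOf] using h.ca (C := [1, 2, 3, 4, 5]) (by decide)
          (h.cb (C := [1]) (by decide) (h.xa t)))
        (fun t => by
          simpa [mul_assoc, Subgroup.mem_subgroupOf] using h.ca (C := [7, 8, 9, 10, 11]) (by decide)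
            (h.cb (C := [7]) (by decide) (h.ya t))) 1
    · obtain ⟨s, hs, c⟩ := h.c3
      refine ⟨(ψ slW)⁻¹ * s * (ψ slW)⁻¹⁻¹ * (ψ (slW * slW))⁻¹, mul_mem
        (h.tw.sharp.conj_mem_H (inv_mem h.nb) hs) (inv_mem (slW_mul_self (F := F) ▸ h.dψ _)), ?_⟩
      convert c 1 using 1
      simp only [map_mul, map_one]
      group
    · have h3 : s ^ Nat.card Kˣ = 1 := Subtype.ext (h.tw.sharp.H_pow_card hs)
      have : CharP K 2 := (CharP.charP_iff_prime_eq_zero Nat.prime_two).2 (by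
        simpa using (map_ofNat e 2).symm.trans ((congrArg e h2).trans (map_zero e)))
      exact Nat.odd_iff.2 (Nat.two_dvd_ne_zero.1 fun h4 =>
        not_dvd_card_units (F := K) 2 (h4.trans (orderOf_dvd_of_pow_eq_one h3)))

theorem fpf {j : M} (hj : S.Acts j (T.sw b)) (jj : j * j = 1) {c : Fˣ} {x d : M} {m : SL(2, F)}
    (hd : (d : G) ∈ S.H) {l : ι → K} (e1 : ∀ s t, d * S.x s t * (d : G)⁻¹ = S.x s (l s * t))
    (hl : ∀ r, ρ r = 3 → l r ≠ 1) (hx : x = ψ m * d) (hj' : j * ψ (slX (c : F)) ∈ Subgroup.zpowers x) :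
    Fpf Q x := fun v hv hc => by
  have c1 : Commute ((j : G) * ψ (slX (c : F))) v := by
    obtain ⟨k, hk⟩ := hj'
    exact congrArg Subtype.val (hk ▸ hc.zpow_left k : Commute (j * ψ (slX (c : F))) v).eq
  have hn : S.Acts ((ψ (slX (c : F)) : G) * ψ (slY (-(c : F)⁻¹)) * ψ (slX (c : F))) (T.sw b) := by
    have := acts_mul' (T.sw_mem b).1 (h.tw.sharp.acts_H _ (h.dψ c)) h.ab
    rwa [one_mul, ← Subgroup.coe_mul, ← map_mul, ← xyx, map_mul, map_mul] at this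
  have key : ∀ R A B V : List (Fin 12), (OK (· + 6) rs12 V V V ∧ OK (· + 6) rs12 A A A ∧
      OK (· + 6) rs12 B B B ∧ (∀ x ∈ V, x ∈ [0, 1, 2, 3, 4, 5]) ∧ (∀ x ∈ V, x ∈ A ∨ x ∈ B) ∧
      (∀ x ∈ A, x ∈ V) ∧ (∀ x ∈ B, x ∈ V) ∧ (∀ x ∈ R, x ∈ A) ∧ (∀ x ∈ R, x ∈ B) ∧
      (∀ x ∈ A, x ∈ B → x ∈ R) ∧ OK (· + 6) rs12 V V R ∧ OK (· + 6) rs12 V R R ∧
      OK (· + 6) rs12 V [0] B ∧ OK (· + 6) rs12 [0] B B ∧ OK (· + 6) rs12 V B B ∧
      OK (· + 6) rs12 B [0] R ∧ OK (· + 6) rs12 [0] R R ∧ OK (· + 6) rs12 B R R ∧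
      OK (· + 6) rs12 A [6] R ∧ OK (· + 6) rs12 [6] R R ∧ OK (· + 6) rs12 A R R ∧
      (∀ x ∈ A, 6 - x ∈ B) ∧ ∀ x ∈ B, 6 - x ∈ A) → (v : G) ∈ Z S ρ V → (v : G) ∈ Z S ρ R := by
    rintro R A B V ⟨o1, o2, o3, o4, o5, o6, o7, o8, o9, o10, o11, o12, o13, o14, o15, o16, o17, o18, o19,
      o20, o21, o22, o23⟩ hv
    exact pair (fun _ => h.rr.mul o1 o4 o5) (Z_mono o6) (Z_mono o7) (Z_mono o8) (Z_mono o9)
      (h.rr.inf h.nd o2 o3 (fun x hx => o4 x (o6 x hx)) (fun x hx => o4 x (o7 x hx)) o10)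
      (fun _ ha _ hb => h.rr.comm o11 o12 o12 ha hb) (fun _ => h.rr.comm o13 o14 o15 (h.xb _))
      (fun _ => h.rr.comm o16 o17 o18 (h.xb _)) (fun _ => h.rr.comm o19 o20 o21 (h.yb _))
      (fun _ => h.rr.conj o17 (h.xb _)) (fun _ => h.rr.conj o20 (h.yb _))
      (fun _ => Z_acts hj h.sb o22) (fun _ => Z_acts hj h.sb o23) (congrArg Subtype.val jj)
      (fun _ => Z_acts hn h.sb o22) hv c1
  have h2 := key [2, 3, 4] [5, 2, 3, 4] [1, 2, 3, 4] [1, 2, 3, 4, 5]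
    (by repeat' apply And.intro <;> try decide) hv
  obtain ⟨p, hp, q, hq, e2⟩ := h.rr.mul (A := [3]) (B := [2, 4]) (by decide) (by decide) (by decide) h2
  have h3 : d * p * (d : G)⁻¹ * p⁻¹ ∈ Z S ρ [2, 4] := by
    have k1 := h.rr.comm (C := [2, 4]) (by decide) (by decide) (by decide) (inv_mem (h.ψ_mem m)) h2
    have k2 := h.rr.conj (B := [2, 4]) (by decide) hp (mul_mem hq (inv_mem (Z_H hd hq)))
    have k3 : (ψ m : G) * d * v = v * (ψ m * d) := by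
      rw [hx] at hc; exact congrArg Subtype.val hc.eq
    convert mul_mem k1 k2 using 1
    rw [commutatorElement_def]
    calc _ = (ψ m : G)⁻¹ * (ψ m * d * v) * (d : G)⁻¹ * (d * q⁻¹ * (d : G)⁻¹ * p⁻¹) := by rw [e2]; group
      _ = _ := by rw [k3, e2]; group
  have h4 : p = 1 := h.rr.eq_one h.nd (A := [3]) (by decide) (by decide) e1
    (fun r hr => hl r (by simpa using hr)) hp (mul_inv_eq_one.1 (Subgroup.mem_bot.1 (Z_nil (S := S) (ρ := ρ) ▸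
      h.rr.inf h.nd (A := [3]) (B := [2, 4]) (by decide) (by decide) (by decide) (by decide) (by decide)
        (Subgroup.mem_inf.2 ⟨mul_mem (Z_H hd hp) (inv_mem hp), h3⟩))))
  rw [h4, one_mul] at e2
  have h5 := key [] [4] [2] [2, 4] (by repeat' apply And.intro <;> try decide) (e2 ▸ hq)
  rw [Z_nil, Subgroup.mem_bot] at h5
  exact Subtype.ext h5

theorem main [Finite K] [Finite F] [Finite M] (p : ℕ) [Fact p.Prime] [CharP K p]
    (hz : (2 : F) = 0 → (Nat.card F + 1).Coprime (Nat.card Kˣ) ∧ ∃ c, SInv T c ∧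
      chw Φ c (Φ.simple i) = 1 ∧ ∀ r, ρ r = 3 → chw Φ c r ≠ 1) :
    ∃ x : M, ¬ p ∣ orderOf x ∧ ∀ g : M, g ≠ 1 → ∃ u v : M, g = (u * x * u⁻¹) * (v * x * v⁻¹) := by
  have : CharP F p := e.charP_iff_charP p |>.2 inferInstance
  obtain ⟨Θ, h1, h2, h3⟩ := h.exists_Θ
  have hP := h.par h1 h2
  obtain ⟨t, t0, t4, z, hzH, hzc, hz1, hzp, l, e1, hl⟩ : ∃ t : F, t ≠ 0 ∧ t ^ 2 + 4 ≠ 0 ∧ ∃ z : M,
      (z : G) ∈ S.H ∧ (∀ m, Commute z (ψ m)) ∧ ((2 : F) ≠ 0 → z = 1) ∧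
      chi ψ Θ h2 (xh t) ∈ Subgroup.zpowers (z * chi ψ Θ h2 (xh t)) ∧ ∃ l : ι → K,
      (∀ s u, (z * Θ (-1) : M) * S.x s u * ((z * Θ (-1) : M) : G)⁻¹ = S.x s (l s * u)) ∧
        ∀ r, ρ r = 3 → l r ≠ 1 := by
    by_cases h0 : (2 : F) = 0
    · obtain ⟨t, t0, t4, ht⟩ := exists_t_even h0
      obtain ⟨hc, c, c1, c2, c3⟩ := hz h0
      obtain ⟨z, z1, z2⟩ := exists_torus h.tw.sharp c1
      have z3 : ∀ m, Commute (⟨z, h.hH z1⟩ : M) (ψ m) := fun m => by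
        have := HasSL2.conj_ext (φ := ψ) (d := ⟨z, h.hH z1⟩) (c := 1) (fun t => by simp [h.ψx, z2, c2])
          (fun t => by simp [h.ψy, z2, chw_neg, c2]) m
        rw [← one_mul (1 : Fˣ), ← conj_diag, map_one, one_mul, inv_one, mul_one] at this
        exact mul_inv_eq_iff_eq_mul.1 this
      have z4 : Commute (⟨z, h.hH z1⟩ : M) (chi ψ Θ h2 (xh t)) :=
        (z3 _).mul_right (hP.T_comm _ z1.1 _ (h1 _))
      have z5 : (⟨z, h.hH z1⟩ : M) ^ Nat.card Kˣ = 1 := Subtype.ext (h.tw.sharp.H_pow_card z1.1)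
      have z6 : (-1 : Fˣ) = 1 := Units.ext (by
        rw [Units.val_neg, Units.val_one]; linear_combination -h0)
      refine ⟨t, t0, t4, ⟨z, h.hH z1⟩, z1.1, z3, fun h => absurd h0 h, ?_, fun r => chw Φ c r, by
        simpa [z6] using z2, fun r hr e2 => c3 r hr (Units.ext e2)⟩
      refine (Subgroup.zpowers_le_of_mem (Subgroup.npow_mem_zpowers _ (Nat.card Kˣ))) ?_
      rw [z4.mul_pow, z5, one_mul, mem_zpowers_pow_iff]
      exact (hc.coprime_dvd_left (orderOf_dvd_of_pow_eq_one (by rw [← map_pow, ht, map_one]))).symm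
    · obtain ⟨t, t0, t4⟩ := exists_t_odd h0
      obtain ⟨l, -, hl⟩ := h.tw.sharp.acts_H _ (h1 (-1))
      refine ⟨t, t0, t4, 1, one_mem _, fun _ => Commute.one_left _, fun _ => rfl, by simp, l,
        by simpa using hl, fun r hr e2 => h0 ?_⟩
      have := h.tw.sharp.x_inj _ ((hl r 1).symm.trans (h3 r hr 1))
      rw [e2] at this
      exact e.injective (by rw [map_ofNat, map_zero]; linear_combination this)
  have hc : Commute z (chi ψ Θ h2 (xh t)) := (hzc _).mul_right (hP.T_comm _ hzH _ (h1 _))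
  refine ⟨z * chi ψ Θ h2 (xh t), fun hp => ?_, fun g => hP.main t0 t4 hzH hzc hz1 rfl ?_⟩
  · rcases (Nat.Prime.dvd_mul Fact.out).1 (hp.trans hc.orderOf_mul_dvd_mul_orderOf) with hp | hp
    · exact not_dvd_card_units (F := K) p (hp.trans (orderOf_dvd_of_pow_eq_one
        (Subtype.ext (h.tw.sharp.H_pow_card hzH))))
    · exact not_dvd_xh p t4 (hp.trans (orderOf_map_dvd _ _))
  · obtain ⟨c, hc'⟩ := h.act (z * Θ (-1)) (mul_mem hzH (h1 (-1)))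
    refine h.fpf (j := ψ slW * Θ (-1)) (c := Units.mk0 t t0) (d := z * Θ (-1)) (m := slW * sl2Conj c (slX t))
      (by simpa using acts_mul' (one_mem _) h.ab (h.tw.sharp.acts_H _ (h1 (-1)))) (by
        simpa only [map_mul, chi_toGL, chi_dg, map_one] using congrArg (chi ψ Θ h2) (j_sq (F := F)))
      (mul_mem hzH (h1 _)) e1 hl ?_ (chi_xh ψ Θ h2 t ▸ hzp)
    rw [map_mul, ← hc', chi_xh, ← mul_assoc, ← mul_assoc, (hzc slW).eq]
    simp [mul_assoc]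

end Hex

end CfsgLib.TH2
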