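import Cfsg.Agent.Lib.TH2.Hex
import Cfsg.Agent.Lib.TwMult.D4
import Cfsg.Agent.Lib.ChevAut.Par
import Cfsg.Agent.Lib.RGD.Simple

/-!
# The groups `G₂(q)` and `³D₄(q)`
-/

set_option autoImplicit false
set_option linter.unusedSectionVars false

namespace CfsgLib.TH2

open CfsgLib.RGD CfsgLib.Twist CfsgLib.TwMult CfsgLib.LieMult CfsgLib.Chev CfsgLib.Classical CfsgLib.Weyl
open CfsgLib.ChevAut Cfsg.Lie
open scoped MatrixGroups

section

variable {ι κ B : Type} [Fintype κ] [DecidableEq κ] {Φ : RootSys ι κ} [Finite ι] {K : Type*} [Field K]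
  {G : Type*} [Group G] {S : StSys Φ K G} {T : Tw S B} {M : Subgroup G}

theorem exists_psi {F : Type*} [Field F] {ψ : κ → SL(2, K) →* G} (h : HasSL2 S ψ) (hM : IsTw T M) {b : B}
    {i : κ} (e : F →+* K) (hb : T.J b = {i}) (hi : T.π i = i) (he : ∀ t, T.f i t = t ↔ ∃ u, e u = t) :
    ∃ φ : SL(2, F) →* M, Rk T M b (sl2RankOne F) φ ∧ (∀ t, (φ (slX t) : G) = S.x (Φ.simple i) (e t)) ∧
      (∀ t, (φ (slY t) : G) = S.x (Φ.neg (Φ.simple i)) (e t)) ∧
      ∀ d : M, (d : G) ∈ S.H → ∃ c : Fˣ, ∀ g, d * φ g * d⁻¹ = φ (sl2Conj c g) := by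
  obtain ⟨φ, h1, h2⟩ := exists_rk_sl2 hM (b := b) (emb ψ i e) (fun g => by
      rw [hb, T.mem_single hM.sharp hi]
      simp only [h.emb_x]
      exact ⟨fun ⟨t, e'⟩ => by obtain ⟨u, hu⟩ := (he t).1 t.2; exact ⟨u, hu ▸ e'⟩,
        fun ⟨u, e'⟩ => ⟨⟨_, (he _).2 ⟨u, rfl⟩⟩, e'⟩⟩)
    (fun t => by
      rw [h.emb_y]
      exact ⟨S.x_mem_UU (neg_simple_mem_negJ (by simp [hb])) _, T.x_neg_fix hi ((he _).2 ⟨t, rfl⟩)⟩)
    (by rw [h.emb_w]; exact S.n_mem_N _ one_ne_zero)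
    fun a => by rw [h.emb_diag]; exact h_mem_H S _ (by simp)
  refine ⟨φ, h2, fun a => by rw [h1, h.emb_x], fun a => by rw [h1, h.emb_y], fun d hd => ?_⟩
  obtain ⟨l, k1, k2, k3⟩ := HasSL2.exists_diag hM hd d.2
  obtain ⟨c, hc⟩ := (he (l (Φ.simple i))).1 (by rw [← k3, hi])
  have h0 : c ≠ 0 := fun e' => left_ne_zero_of_mul_eq_one (k1 _) (by rw [← hc, e', map_zero])
  refine ⟨Units.mk0 c h0, HasSL2.conj_ext (fun t => ?_) fun t => ?_⟩
  · simp [h1, h.emb_x, k2, hc]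
  · simp [h1, h.emb_y, k2, hc, eq_inv_of_mul_eq_one_right (k1 (Φ.simple i))]

theorem tor_dec {E : B → Type*} [∀ c, Field (E c)] [∀ c, Finite (E c)] [Finite K] (p : ℕ) [Fact p.Prime]
    [CharP K p] [∀ c, CharP (E c) p] {ψ : ∀ c, SL(2, E c) →* M} (h : ∀ c, Rk T M c (sl2RankOne _) (ψ c))
    (hM : IsTw T M) (hgen : M ≤ (S.U ⊓ T.Fix) ⊔ (S.V ⊓ T.Fix)) {a b : B} (all : ∀ c, c = a ∨ c = b)
    (d : M) (hd : (d : G) ∈ S.H) : ∃ u v, d = ψ b (sl2Diag u) * ψ a (sl2Diag v) := by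
  have gen := (rg_charP h hM p hgen (fun _ => sl2_U_p p) (fun _ => sl2_V_p p) fun _ => sl2_T_p p).gen
  obtain ⟨u, hu, t, ht, e⟩ := (rg h hM).sys.exists_of_conj_U (g := d) (gen ▸ Subgroup.mem_top _)
    fun u hu => hM.sharp.H_conj_UU hd hu
  have k : (rg h hM).sys.Tor ≤ prod (sl2Diag.range.map (ψ b)) (sl2Diag.range.map (ψ a)) (by
      rintro _ ⟨s, hs, rfl⟩ _ ⟨t, ht, rfl⟩
      have : ψ a s * ψ b t = ψ b t * ψ a s := Subtype.ext (hM.sharp.H_comm ((h a).T s hs) ((h b).T t ht))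
      rw [this, mul_inv_cancel_right]
      exact ⟨t, ht, rfl⟩) := iSup_le fun c => by
    rcases all c with rfl | rfl
    exacts [fun _ => le_prod_right, fun _ => le_prod_left]
  obtain ⟨_, ⟨_, ⟨x, rfl⟩, rfl⟩, _, ⟨_, ⟨y, rfl⟩, rfl⟩, rfl⟩ := k ht
  have : (u : G) = 1 := hM.sharp.eq_one_of_mem_U_N hu (H_le_N S (by
    have := mul_mem hd (inv_mem (mul_mem ((h b).T _ ⟨x, rfl⟩) ((h a).T _ ⟨y, rfl⟩)))
    rwa [e, Subgroup.coe_mul, Subgroup.coe_mul, mul_inv_cancel_right] at this))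
  exact ⟨x, y, by rw [e, show u = 1 from Subtype.ext this, one_mul]⟩

end

theorem cop {F : Type*} [Field F] [Finite F] (h : (2 : F) = 0) {n : ℕ} (hn : Nat.card F + 1 ∣ n + 2) :
    (Nat.card F + 1).Coprime n := by
  have := Fintype.ofFinite F
  have : CharP F 2 := (CharP.charP_iff_prime_eq_zero Nat.prime_two).2 (by simpa using h)
  have h2 := FiniteField.even_card_of_char_two (F := F) (ringChar.eq F 2)
  rw [← Nat.card_eq_fintype_card] at h2
  refine Nat.Coprime.symm (Nat.eq_one_of_dvd_coprimes (a := 2) (b := Nat.card F + 1) ?_ ?_ (Nat.gcd_dvd_right _ _))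
  · exact (Nat.Prime.coprime_iff_not_dvd Nat.prime_two).2 (by omega)
  · exact (Nat.dvd_add_right (Nat.gcd_dvd_left _ _)).1 ((Nat.gcd_dvd_right _ _).trans hn)

/-- the relative roots of `G₂` -/
def rG (r : Fin chevG2.nroots) : Fin 12 := [8, 10, 9, 7, 11, 6, 0, 5, 1, 3, 4, 2].getD r 0

/-- the relative roots of `³D₄` -/
def rD (r : Fin chevD4.nroots) : Fin 12 :=
  [8, 10, 9, 9, 7, 11, 9, 7, 7, 6, 11, 11, 5, 5, 0, 1, 1, 3, 5, 1, 3, 3, 4, 2].getD r 0

/-- the nodes of `G₂` -/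
def nG (i : Fin 2) : Fin chevG2.rank := i

theorem G2 {F : Type*} [Field F] [Fintype F] (p : ℕ) [Fact p.Prime] [CharP F p] (h3 : 3 ≤ Fintype.card F) :
    ∃ x : chevG2.group F, ¬ p ∣ orderOf x ∧
      ∀ g : chevG2.group F, g ≠ 1 → ∃ u v : chevG2.group F, g = (u * x * u⁻¹) * (v * x * v⁻¹) := by
  have hM := isTw_group (F := F) rtOKG2
  choose ψ h1 h2 h3' h4 using fun i => exists_psi (hasSL2_stSys rtOKG2 F) hM (b := i) (i := i) (RingHom.id F)
    rfl rfl (by simp [idTw])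
  have sw : ∀ i, (idTw (stSys rtOKG2 F)).sw i = (rootSys rtOKG2).s i := fun i =>
    (eq_w0 _ (J := {i}) ((rootSys rtOKG2).s_mem_WJ rfl) (by
      rintro _ rfl; exact (rootSys rtOKG2).s_simple _ ▸ (rootSys rtOKG2).neg_neg_simple _)).symm
  have all : ∀ c, c = nG 0 ∨ c = nG 1 := by decide +kernel
  have hx : Hex (idTw (stSys rtOKG2 F)) (chevG2.group F) (nG 0) (nG 1) (nG 1) rG (RingHom.id F)
      (ψ (nG 1)) (ψ (nG 0)) :=
    { tw := hM
      nd := stSys_nondeg _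
      rr := rr12 (nG 1) (by decide +kernel) (by decide +kernel) (by decide +kernel)
        (by simp only [pos_iff_le]; decide +kernel)
      all := all
      Jb := by simp only [idTw_J, posJ_singleton, Set.mem_singleton_iff]; decide +kernel
      Ja := by simp only [idTw_J, posJ_singleton, Set.mem_singleton_iff]; decide +kernel
      sa := by simp only [sw]; decide +kernel
      sb := by simp only [sw]; decide +kernel
      w0 := by simp only [sw]; decide +kernel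
      ht := by simp only [rootSys_wt]; decide +kernel
      i0 := by decide +kernel
      rψ := h1 _
      rφ := h1 _
      ψx := h2 _
      ψy := h3' _
      act := h4 _
      fe := fun _ _ => rfl
      hH := fun _ h => stSys_grp (F := F) rtOKG2 ▸ h.2.1
      tor := tor_dec (E := fun _ => F) p h1 hM (by
        rw [← stSys_grp rtOKG2, ← StSys.U_sup_V]
        exact sup_le_sup (fun u hu => ⟨hu, (stSys rtOKG2 F).U_le_grp hu, rfl⟩)
          fun u hu => ⟨hu, (stSys rtOKG2 F).V_le_grp hu, rfl⟩) all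
      simple := isSimpleGroup_G2 (by
        classical
        obtain ⟨a, -, ha⟩ := Finset.exists_mem_notMem_of_card_lt_card (s := ({0, 1} : Finset F))
          (t := Finset.univ) (lt_of_le_of_lt Finset.card_le_two h3)
        exact ⟨a, by simpa using ha⟩) }
  refine hx.main p fun h2 => ⟨cop h2 (by
    rw [card_units', Nat.card_eq_fintype_card, show Fintype.card F - 1 + 2 = Fintype.card F + 1 by omega]), ?_⟩
  have : CharP F 2 := (CharP.charP_iff_prime_eq_zero Nat.prime_two).2 (by simpa using h2)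
  have h5 := FiniteField.even_card_of_char_two (F := F) (ringChar.eq F 2)
  obtain ⟨c, c0, c1⟩ := CfsgLib.Twist.exists_sq_ne_one (K := F) (by omega)
  let v : Fin 2 → Fˣ := ![Units.mk0 c c0 ^ 2, Units.mk0 c c0 ^ 3]
  have k : ∀ r, chw (rootSys rtOKG2) v r = v 0 ^ chevG2.cartan 0 r * v 1 ^ chevG2.cartan 1 r := fun r => by
    simp only [chw, rootSys_wt]
    exact Fin.prod_univ_two _
  refine ⟨v, fun _ => rfl, ?_, fun r hr => ?_⟩
  · rw [k, (by decide +kernel : chevG2.cartan 0 ((rootSys rtOKG2).simple (nG 1)) = -3),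
      (by decide +kernel : chevG2.cartan 1 ((rootSys rtOKG2).simple (nG 1)) = 2)]
    simp only [v, Matrix.cons_val_zero, Matrix.cons_val_one]
    group
  · obtain ⟨e1, e2⟩ := (by decide +kernel : ∀ r, rG r = 3 → chevG2.cartan 0 r = 1 ∧ chevG2.cartan 1 r = 0) r hr
    rw [k, e1, e2]
    simpa [v, Units.ext_iff] using c1

theorem D4 {K : Type*} [Field K] [Fintype K] (p : ℕ) [Fact p.Prime] [CharP K p] (q : ℕ) (hq : IsPrimePow q)
    (hK : Fintype.card K = q ^ 3) : ∃ x : twistedD4 K q, ¬ p ∣ orderOf x ∧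
      ∀ g : twistedD4 K q, g ≠ 1 → ∃ u v : twistedD4 K q, g = (u * x * u⁻¹) * (v * x * v⁻¹) := by
  obtain ⟨φ, hφ⟩ := exists_frob hq hK
  have h3 := frob3 hφ hK
  have hM := isTwD4 hφ h3
  have q2 := two_le_of_card hK
  have : ∀ c : Fin 2, ∃ ψ : SL(2, fldD4 φ c) →* twistedD4 K q, Rk (twD4 φ) _ c (sl2RankOne _) ψ ∧ (c = 0 →
      (∀ t, (ψ (slX t) : GL _ K) = (stSys rtOKD4 K).x ((rootSys rtOKD4).simple (ndD4 1)) t) ∧
      (∀ t, (ψ (slY t) : GL _ K) =
        (stSys rtOKD4 K).x ((rootSys rtOKD4).neg ((rootSys rtOKD4).simple (ndD4 1))) t) ∧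
      ∀ d : twistedD4 K q, (d : GL _ K) ∈ (stSys rtOKD4 K).H →
        ∃ c, ∀ g, d * ψ g * d⁻¹ = ψ (sl2Conj c g)) := by
    rw [Fin.forall_fin_two]
    exact ⟨(exists_psi (hasSL2_stSys rtOKD4 K) hM (fldD4 φ 0).subtype JD4_0 piD4.2.1
      fun t => ⟨fun h => ⟨⟨t, h⟩, rfl⟩, fun ⟨u, h⟩ => h ▸ u.2⟩).imp fun _ h => ⟨h.1, fun _ => h.2⟩,
      (rkD4 hφ hK 1).imp fun _ h => ⟨h.1, fun e => absurd e (by decide)⟩⟩
  choose ψ h1 h2 using this
  have sw : ∀ b r, (twD4 φ).sw b r = ⟨actT tSwD4 b r, swD4 b r ▸ (symD4.sw b r).2⟩ := fun b r =>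
    Fin.ext (swD4 b r)
  have all : ∀ c : Fin 2, c = 1 ∨ c = 0 := by decide
  have hx : Hex (twD4 φ) (twistedD4 K q) 1 0 (ndD4 1) rD (fldD4 φ 0).subtype (ψ 0) (ψ 1) :=
    { tw := hM
      nd := stSys_nondeg _
      rr := rr12 (ndD4 1) (by decide +kernel) (by decide +kernel) (by decide +kernel)
        (by simp only [pos_iff_le]; decide +kernel)
      all := all
      Jb := fun r => (posJD4_0 r).trans (by revert r; decide +kernel)
      Ja := fun r => (posJD4_1 r).trans (by revert r; decide +kernel)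
      sa := by simp only [sw]; decide +kernel
      sb := by simp only [sw]; decide +kernel
      w0 := by simp only [sw]; decide +kernel
      ht := by simp only [rootSys_wt]; decide +kernel
      i0 := by decide +kernel
      rψ := h1 _
      rφ := h1 _
      ψx := (h2 _ rfl).1
      ψy := (h2 _ rfl).2.1
      act := (h2 _ rfl).2.2
      fe := fun _ u => u.2
      hH := (card_HD4' hφ h3).1
      tor := tor_dec p h1 hM (genD4 hφ h3) all
      simple := (simpleD4 hφ hK).1 }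
  have hc : Nat.card (fldD4 φ 0) = q := by
    rw [← card_fixed hK (by omega)]
    exact Nat.card_congr (Equiv.subtypeEquivRight fun t => by rw [← hφ]; rfl)
  refine hx.main p fun h2 => ⟨cop h2 (by
    rw [card_units', hc, hK, show q ^ 3 - 1 + 2 = q ^ 3 + 1 ^ 3 by have := Nat.one_le_pow 3 q (by omega); omega]
    exact Odd.nat_add_dvd_pow_add_pow _ _ (by decide)), ?_⟩
  have : CharP K 2 := (CharP.charP_iff_prime_eq_zero Nat.prime_two).2 (congrArg Subtype.val h2)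
  obtain ⟨c, c1⟩ : ∃ c, φ c ≠ c := by
    by_contra h
    push Not at h
    rw [← Nat.card_eq_fintype_card, ← Nat.card_congr (Equiv.subtypeUnivEquiv (p := (· ∈ fldD4 φ 0)) h), hc] at hK
    nlinarith [Nat.pow_le_pow_left q2 2]
  have c0 : c ≠ 0 := fun e => c1 (by simp [e])
  have d0 := (map_ne_zero φ).2 c0
  have e0 := (map_ne_zero φ).2 d0
  let v : Fin 4 → Kˣ := ![Units.mk0 c c0 ^ 2, Units.mk0 c c0 * Units.mk0 _ d0 * Units.mk0 _ e0,
    Units.mk0 _ d0 ^ 2, Units.mk0 _ e0 ^ 2]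
  have k : ∀ r, chw (rootSys rtOKD4) v r = v 0 ^ chevD4.cartan 0 r * v 1 ^ chevD4.cartan 1 r *
      v 2 ^ chevD4.cartan 2 r * v 3 ^ chevD4.cartan 3 r := fun r => by
    simp only [chw, rootSys_wt]
    exact Fin.prod_univ_four _
  have k1 : ∀ x : K, φ x ≠ x → φ x ^ 2 * φ (φ x) ^ 2 ≠ x ^ 2 := fun x hx e => by
    have e' := congrArg φ e
    simp only [map_mul, map_pow, h3] at e'
    have : (φ x - x) ^ 2 ^ 2 = 0 := by
      rw [sub_pow_char_pow]; linear_combination x ^ 2 * e - φ x ^ 2 * e'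
    exact hx (sub_eq_zero.1 (pow_eq_zero_iff (by norm_num) |>.1 this))
  have c2 : φ (φ c) ≠ φ c := fun e => c1 (φ.injective e)
  refine ⟨v, ?_, ?_, fun r hr => ?_⟩
  · obtain ⟨p0, p1, p2, p3⟩ := piD4
    change ∀ i, ((vecD4 v (symD4.π i) : Kˣ) : K) = φ (vecD4 v i : Kˣ)
    rw [forall_ndD4, p0, p1, p2, p3]
    simp [vecD4_nd, v, h3, mul_comm, mul_left_comm]
  · obtain ⟨e1, e2, e3, e4⟩ : chevD4.cartan 0 14 = -1 ∧ chevD4.cartan 1 14 = 2 ∧ chevD4.cartan 2 14 = -1 ∧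
      chevD4.cartan 3 14 = -1 := by decide +kernel
    rw [k, (by decide +kernel : (((rootSys rtOKD4).simple (ndD4 1) : Fin _) : ℕ) = 14), e1, e2, e3, e4]
    ext
    simp [v]
    field_simp
  · obtain ⟨e1, e⟩ := (by decide +kernel : ∀ r, rD r = 3 → chevD4.cartan 1 r = 0 ∧
      ((chevD4.cartan 0 r = -1 ∧ chevD4.cartan 2 r = 1 ∧ chevD4.cartan 3 r = 1) ∨
      (chevD4.cartan 0 r = 1 ∧ chevD4.cartan 2 r = -1 ∧ chevD4.cartan 3 r = 1) ∨
      chevD4.cartan 0 r = 1 ∧ chevD4.cartan 2 r = 1 ∧ chevD4.cartan 3 r = -1)) r hr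
    rw [k, e1]
    intro h
    have h := congrArg Units.val h
    rcases e with ⟨e0, e2, e3⟩ | ⟨e0, e2, e3⟩ | ⟨e0, e2, e3⟩ <;> rw [e0, e2, e3] at h <;> simp [v] at h <;>
      field_simp at h
    · exact k1 c c1 (by linear_combination h)
    · exact k1 _ c2 (by rw [h3]; linear_combination h)
    · exact k1 (φ (φ c)) (fun e => c2 (φ.injective e)) (by rw [h3]; linear_combination h)

end CfsgLib.TH2
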