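import Cfsg.Agent.Lib.TH2.Hex

/-!
# Groups with dihedral Weyl group of order sixteen
-/

set_option autoImplicit false
set_option linter.unusedSectionVars false

namespace CfsgLib.TH2

open CfsgLib.RGD CfsgLib.Twist CfsgLib.TwMult CfsgLib.LieMult CfsgLib.Chev CfsgLib.Classical
open scoped commutatorElement MatrixGroups

/-- the double cosets in the dihedral group of order sixteen -/
def Dc8 {W : Type*} [Group W] (s t w : W) : Prop := ∃ x, (x = 1 ∨ x = t) ∧ ∃ y, (y = 1 ∨ y = t) ∧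
  ∃ d, (d = 1 ∨ d = s ∨ d = s * t * s ∨ d = s * t * s * t * s ∨ d = s * t * s * t * s * t * s) ∧ w = x * d * y

theorem Dc8.mul {W : Type*} [Group W] {s t w : W} (hs : s * s = 1) (ht : t * t = 1)
    (hb : s * t * s * t * s * t * s * t * s = t * s * t * s * t * s * t) (h : Dc8 s t w) :
    Dc8 s t (w * s) ∧ Dc8 s t (w * t) := by
  obtain ⟨x, hx, y, hy, d, hd, rfl⟩ := h
  have hx' : x * t = 1 ∨ x * t = t := by rcases hx with rfl | rfl <;> simp [ht]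
  refine ⟨?_, x, hx, y * t, by rcases hy with rfl | rfl <;> simp [ht], d, hd, mul_assoc _ _ _⟩
  rcases hy with hy | hy <;> rcases hd with hd | hd | hd | hd | hd <;> rw [hy, hd]
  · exact ⟨x, hx, 1, by simp, s, by simp, by simp⟩
  · exact ⟨x, hx, 1, by simp, 1, by simp, by simp [mul_assoc, hs]⟩
  · exact ⟨x, hx, t, by simp, s, by simp, by simp [mul_assoc, hs]⟩
  · exact ⟨x, hx, t, by simp, s * t * s, by simp, by simp [mul_assoc, hs]⟩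
  · exact ⟨x, hx, t, by simp, s * t * s * t * s, by simp, by simp [mul_assoc, hs]⟩
  · exact ⟨x * t, hx', 1, by simp, s, by simp, by simp⟩
  · exact ⟨x, hx, 1, by simp, s * t * s, by simp, by simp [mul_assoc]⟩
  · exact ⟨x, hx, 1, by simp, s * t * s * t * s, by simp, by simp [mul_assoc]⟩
  · exact ⟨x, hx, 1, by simp, s * t * s * t * s * t * s, by simp, by simp [mul_assoc]⟩
  · exact ⟨x * t, hx', t, by simp, s * t * s * t * s, by simp, by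
      rw [mul_assoc x, mul_assoc x, hb]; simp [mul_assoc]⟩

/-- the sign of the level of a relative root -/
def sg16 (x : Fin 16) : ℤ := [0, 1, 1, 1, 1, 1, 1, 1, 0, -1, -1, -1, -1, -1, -1, -1].getD x 0

/-- a necessary condition for sums of roots -/
def rs16 (x y z : Fin 16) : Bool :=
  (sg16 x + sg16 y ≤ 0 || sg16 z == 1) && (0 ≤ sg16 x + sg16 y || sg16 z == -1)

variable {ι κ B : Type} [Fintype κ] [DecidableEq κ] {Φ : RootSys ι κ}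

theorem rr16 {ρ : ι → Fin 16} (i j : κ) (h1 : ∀ r, (Φ.rt r i + Φ.rt r j).sign = sg16 (ρ r))
    (h3 : ∀ r, ρ (Φ.neg r) = ρ r + 8) (h4 : ∀ r, Φ.Pos r ↔ ρ r ∈ [0, 1, 2, 3, 4, 5, 6, 7]) :
    RR Φ ρ (· + 8) rs16 [0, 1, 2, 3, 4, 5, 6, 7] where
  neg := h3
  pos := h4
  sum r s k := by
    rintro ⟨a, b, ha, hb, e⟩ -
    have e1 : Φ.rt k i + Φ.rt k j = a * (Φ.rt r i + Φ.rt r j) + b * (Φ.rt s i + Φ.rt s j) := by
      rw [e, e]; ring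
    have ha' : (0 : ℤ) < a := by exact_mod_cast ha
    have hb' : (0 : ℤ) < b := by exact_mod_cast hb
    simp only [rs16, ← h1, e1, Bool.and_eq_true, Bool.or_eq_true, decide_eq_true_eq, beq_iff_eq,
      Int.sign_eq_one_iff_pos, Int.sign_eq_neg_one_iff_neg]
    generalize Φ.rt r i + Φ.rt r j = x
    generalize Φ.rt s i + Φ.rt s j = y
    rcases lt_trichotomy x 0 with hx | rfl | hx <;> rcases lt_trichotomy y 0 with hy | rfl | hy <;>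
      simp [Int.sign_eq_one_of_pos, Int.sign_eq_neg_one_of_neg, *] <;> nlinarith

variable {K : Type*} [Field K] {G : Type*} [Group G] {S : StSys Φ K G} [Finite ι]

/-- the data of a group of type `²F₄` -/
structure Oct (T : Tw S B) (M : Subgroup G) (a b : B) (ρ : ι → Fin 16) (ψ : SL(2, K) →* M) (n : M) :
    Prop where
  tw : IsTw T M
  nd : S.Nondeg
  rr : RR Φ ρ (· + 8) rs16 [0, 1, 2, 3, 4, 5, 6, 7]
  all : ∀ c, c = a ∨ c = b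
  Jb : ∀ r, r ∈ posJ Φ (T.J b) ↔ ρ r = 0
  Ja : ∀ r, r ∈ posJ Φ (T.J a) ↔ ρ r = 7
  sa : ∀ r, ρ (T.sw a r) = 6 - ρ r
  sb : ∀ r, ρ (T.sw b r) = 8 - ρ r
  w0 : ∀ r, T.sw a (T.sw b (T.sw a (T.sw b (T.sw a (T.sw b (T.sw a (T.sw b r))))))) = Φ.neg r
  rψ : Rk T M b (sl2RankOne K) ψ
  na : (n : G) ∈ S.N
  aa : S.Acts n (T.sw a)
  act : ∀ d : M, (d : G) ∈ S.H → ∃ c : Kˣ, ∀ g, d * ψ g * d⁻¹ = ψ (sl2Conj c g)
  comm : ∀ r, ρ r ∈ [4, 12] → ∀ s, ρ s ∈ [0, 8] → ∀ t u, Commute (S.x r t) (S.x s u)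
  simple : IsSimpleGroup M

namespace Oct

variable {T : Tw S B} {M : Subgroup G} {a b : B} {ρ : ι → Fin 16} {ψ : SL(2, K) →* M} {n : M}
  (h : Oct T M a b ρ ψ n)
include h

theorem negJ_iff {J : Set κ} {x : Fin 16} (hJ : ∀ r, r ∈ posJ Φ J ↔ ρ r = x) (r : ι) :
    r ∈ negJ Φ J ↔ ρ r = x + 8 := by
  have : r ∈ negJ Φ J ↔ Φ.neg r ∈ posJ Φ J := and_congr Φ.pos_neg_iff.symm Φ.inSub_neg_iff.symm
  rw [this, hJ, h.rr.neg]
  exact (by decide : ∀ x y : Fin 16, y + 8 = x ↔ y = x + 8) _ _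

theorem xb (t : K) : (ψ (slX t) : G) ∈ Z S ρ [0] :=
  S.UU_mono (fun r hr => by simpa using (h.Jb r).1 hr) (h.rψ.U.ge ⟨_, slX_mem t, rfl⟩)

theorem yb (t : K) : (ψ (slY t) : G) ∈ Z S ρ [8] :=
  S.UU_mono (fun r hr => by simpa using (h.negJ_iff h.Jb r).1 hr) (h.rψ.V.ge ⟨_, slY_mem t, rfl⟩)

theorem ψ_mem (g : SL(2, K)) : (ψ g : G) ∈ Z S ρ [0, 8] :=
  sl2_le (χ := M.subtype.comp ψ) (fun t => Z_mono (by decide) (h.xb t)) (fun t => Z_mono (by decide) (h.yb t)) g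

theorem ab : S.Acts (ψ slW : G) (T.sw b) := h.rψ.n_acts

theorem nb : (ψ slW : G) ∈ S.N := h.rψ.n_mem

theorem ca {A C : List (Fin 16)} (o : ∀ x ∈ A, 6 - x ∈ C) {u : G} (hu : u ∈ Z S ρ A) :
    n * u * (n : G)⁻¹ ∈ Z S ρ C := Z_acts h.aa h.sa o hu

theorem cb {A C : List (Fin 16)} (o : ∀ x ∈ A, 8 - x ∈ C) {u : G} (hu : u ∈ Z S ρ A) :
    ψ slW * u * (ψ slW : G)⁻¹ ∈ Z S ρ C := Z_acts h.ab h.sb o hu

theorem ai : S.Acts (n : G)⁻¹ (T.sw a) := T.sw_inv a ▸ acts_inv' (T.sw_mem a).1 h.aa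

theorem bi : S.Acts (ψ slW : G)⁻¹ (T.sw b) := T.sw_inv b ▸ acts_inv' (T.sw_mem b).1 h.ab

theorem commute {u v : G} (hu : u ∈ Z S ρ [4, 12]) (hv : v ∈ Z S ρ [0, 8]) : Commute u v := by
  have k : ∀ {x y : G}, Commute x y ↔ x ∈ Subgroup.centralizer {y} := by
    simp [Subgroup.mem_centralizer_singleton_iff, Commute, SemiconjBy]
  exact k.2 (S.UU_le_iff.2 (fun r hr t => k.1 (Commute.symm (k.2
    (S.UU_le_iff.2 (fun s hs u => k.1 (h.comm r hr s hs t u).symm) hv)))) hu)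

theorem range_norm : ∀ s ∈ S.H.subgroupOf M, ∀ g ∈ ψ.range, s * g * s⁻¹ ∈ ψ.range := by
  rintro s hs _ ⟨m, rfl⟩
  obtain ⟨c, hc⟩ := h.act s hs
  exact ⟨_, (hc m).symm⟩

/-- the Levi subgroup -/
def L : Subgroup M := prod ψ.range (S.H.subgroupOf M) h.range_norm

theorem ψL (m : SL(2, K)) : ψ m ∈ h.L := le_prod_left ⟨m, rfl⟩

theorem HL {s : M} (hs : (s : G) ∈ S.H) : s ∈ h.L := le_prod_right hs

theorem norm {A : List (Fin 16)} (o : OK (· + 8) rs16 [0, 8] A A) : ∀ l ∈ h.L,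
    ∀ q ∈ (Z S ρ A).subgroupOf M, l * q * l⁻¹ ∈ (Z S ρ A).subgroupOf M := by
  rintro _ ⟨_, ⟨m, rfl⟩, s, hs, rfl⟩ q hq
  have := h.rr.conj o (h.ψ_mem m) (Z_H (u := (q : G)) hs hq)
  rw [Subgroup.mem_subgroupOf]
  simpa [mul_assoc] using this

theorem dψ (u : Kˣ) : (ψ (sl2Diag u) : G) ∈ S.H := h.rψ.T _ ⟨u, rfl⟩

theorem dc {w : Equiv.Perm ι} (hw : w ∈ T.W1) : Dc8 (T.sw a) (T.sw b) w :=
  T.W1_induction (p := Dc8 (T.sw a) (T.sw b)) ⟨1, Or.inl rfl, 1, Or.inl rfl, 1, Or.inl rfl, by simp⟩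
    (fun v _ c _ hv => by
      have k : T.sw a * T.sw b * T.sw a * T.sw b * T.sw a * T.sw b * T.sw a * T.sw b *
          (T.sw a * T.sw b * T.sw a * T.sw b * T.sw a * T.sw b * T.sw a * T.sw b) = 1 :=
        Equiv.ext fun r => by simp only [Equiv.Perm.mul_apply, h.w0, Φ.neg_neg, Equiv.Perm.one_apply]
      have := hv.mul (T.sw_mul_self a) (T.sw_mul_self b) (by
        rw [eq_inv_of_mul_eq_one_left k]
        simp only [mul_inv_rev, Sym.sw_inv, mul_assoc, T.sw_mul_self, mul_one])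
      rcases h.all c with rfl | rfl
      exacts [this.1, this.2]) hw

local notation "Q" => Subgroup.subgroupOf (Z S ρ [1, 2, 3, 4, 5, 6, 7]) M
local notation "Q'" => Subgroup.subgroupOf (Z S ρ [9, 10, 11, 12, 13, 14, 15]) M
local notation "ee" => n * ψ slW * n * ψ slW * (n * ψ slW * n)⁻¹

theorem nQ : ∀ l ∈ h.L, ∀ q ∈ Q, l * q * l⁻¹ ∈ Q := h.norm (by decide)

theorem nQ' : ∀ l ∈ h.L, ∀ q ∈ Q', l * q * l⁻¹ ∈ Q' := h.norm (by decide)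

/-- the parabolic subgroup -/
def P : Subgroup M := prod Q h.L h.nQ

theorem U_le_P {u : M} (hu : (u : G) ∈ S.U) : u ∈ h.P := by
  obtain ⟨x, hx, c, hc, e1⟩ := T.exists_rad_mul_fix h.tw.sharp b hu (h.tw.le_fix u.2)
  obtain ⟨_, ht, e2⟩ := h.rψ.U.le (x := ⟨c, h.tw.posJ_le b hc⟩) hc.1
  obtain ⟨t, rfl⟩ := mem_slU.1 ht
  refine ⟨u * (ψ (slX t))⁻¹, ?_, _, h.ψL (slX t), by group⟩
  rw [Subgroup.mem_subgroupOf, e2]
  simp only [Subgroup.coe_mul, Subgroup.coe_inv, e1, mul_inv_cancel_right]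
  refine S.UU_mono (fun r hr => ?_) hx.1
  exact (by decide : ∀ x : Fin 16, x ∈ [0, 1, 2, 3, 4, 5, 6, 7] → x ≠ 0 → x ∈ [1, 2, 3, 4, 5, 6, 7]) _
    ((h.rr.pos r).1 hr.1) fun e3 => hr.2 ((h.Jb r).2 e3).2

theorem gauss : ∃ u v s u' : M, (u : G) ∈ Z S ρ [7] ∧ (v : G) ∈ Z S ρ [15] ∧ v ≠ 1 ∧ (s : G) ∈ S.H ∧
    (u' : G) ∈ Z S ρ [7] ∧ n = u * v * s * u' := by
  obtain ⟨v, h1, h2, h3⟩ := h.tw.exists_neg a
  obtain ⟨u, m, u', h4, h5, h6, h7, e⟩ := (levi_bruhat h.tw a ⟨⟨v, h1⟩, Subgroup.mem_sup_right h2⟩).resolve_left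
    fun h' => h3 (h.tw.sharp.eq_one_of_mem_B_V h' (UU_negJ_le_V S _ h2))
  have k : ∀ {g : G}, g ∈ S.UU (posJ Φ (T.J a)) → g ∈ Z S ρ [7] := fun hg =>
    S.UU_mono (fun r hr => by simpa using (h.Ja r).1 hr) hg
  have h8 := h.tw.sharp.inv_mul_mem_H h6 h.na (T.sw_mem a).1 h7 h.aa
  refine ⟨u.1⁻¹, ⟨v, h1⟩, m.1⁻¹ * n, (m.1⁻¹ * n)⁻¹ * u'.1⁻¹ * (m.1⁻¹ * n)⁻¹⁻¹, inv_mem (k h4),
    S.UU_mono (fun r hr => by simpa using (h.negJ_iff h.Ja r).1 hr) h2,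
    fun e => h3 (congrArg Subtype.val e), h8, Z_H (inv_mem h8) (inv_mem (k h5)), ?_⟩
  rw [show (⟨v, h1⟩ : M) = u.1 * m.1 * u'.1 from congrArg Subtype.val e]
  group

theorem core {g : M} (hg : g ≠ 1) : ∃ k, k * g * k⁻¹ ∉ h.P := by
  by_contra hc
  push Not at hc
  rcases h.simple.eq_bot_or_eq_top_of_normal h.P.normalCore inferInstance with e1 | e1
  · exact hg (Subgroup.mem_bot.1 (e1 ▸ hc))
  obtain ⟨q, hq, l, hl, e2⟩ : n ∈ h.P := h.P.normalCore_le (e1 ▸ Subgroup.mem_top _)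
  obtain ⟨-, v, -, -, -, h1, h2, -⟩ := h.gauss
  have h3 : v ∈ Q := by
    have := mul_mem (mul_mem hq (h.nQ l hl (n⁻¹ * v * n⁻¹⁻¹)
      (Z_acts (B := [1, 2, 3, 4, 5, 6, 7]) h.ai h.sa (by decide) h1))) (inv_mem hq)
    rw [e2] at this
    convert this using 1
    group
  refine h2 (Subtype.ext (h.tw.sharp.eq_one_of_mem_B_V
    (S.U_le_B (h.rr.U_eq (S := S) ▸ Z_mono (by decide) h3)) (S.UU_mono (fun r hr => ?_) h1)))
  rw [Set.mem_setOf_eq, Φ.neg_iff_not_pos, h.rr.pos, List.mem_singleton.1 hr]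
  decide

theorem odd [Finite K] [CharP K 2] {s : M} (hs : (s : G) ∈ S.H) : Odd (orderOf s) :=
  Nat.odd_iff.2 (Nat.two_dvd_ne_zero.1 fun h4 => not_dvd_card_units (F := K) 2
    (h4.trans (orderOf_dvd_of_pow_eq_one (Subtype.ext (h.tw.sharp.H_pow_card hs)))))

theorem fam [Finite K] [CharP K 2] {m σ : M} {w : Equiv.Perm ι} (hm : (m : G) ∈ S.N) (hw : w ∈ Φ.W)
    (ha : S.Acts m w) (k : ℕ) (hk : ∀ r, ((w * T.sw b) ^ k) r = Φ.neg r) (hσ : (σ : G) ∈ S.H)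
    (c : Cell Q Q' σ m) : ∀ d ∈ S.H.subgroupOf M, ∃ g, Cell Q Q' (ψ g * d) m := by
  have cm : ∀ {x y : M}, (x : G) ∈ S.H → (y : G) ∈ S.H → x * y = y * x := fun hx hy =>
    Subtype.ext (h.tw.sharp.H_comm hx hy)
  let D : M → Prop := fun d => ∀ s : M, (s : G) ∈ S.H → (∃ g, Cell Q Q' (ψ g * s) m) →
    ∃ g, Cell Q Q' (ψ g * (s * d)) m
  let E : M → Prop := fun x => (x : G) ∈ S.N ∧ ∀ s : M, (s : G) ∈ S.H → D (s * (x⁻¹ * s * x⁻¹⁻¹)⁻¹)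
  have cj : ∀ {x s : M}, (x : G) ∈ S.N → (s : G) ∈ S.H → ((x⁻¹ * s * x⁻¹⁻¹ : M) : G) ∈ S.H := fun hx hs =>
    h.tw.sharp.conj_mem_H (inv_mem hx) hs
  have E1 : ∀ x y, E x → E y → E (x * y) := fun x y hx hy => ⟨mul_mem hx.1 hy.1, fun s hs t ht c => by
    have := hy.2 _ (cj hx.1 hs) _ (mul_mem ht (mul_mem hs (inv_mem (cj hx.1 hs)))) (hx.2 s hs t ht c)
    convert this using 4
    group⟩
  have E2 : E (ψ slW) := ⟨h.nb, fun s hs t ht ⟨g, c⟩ => by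
    obtain ⟨g', e⟩ := h.range_norm t ht _
      (inv_mem (mul_mem (h.range_norm s hs _ (inv_mem ⟨slW, rfl⟩)) ⟨slW, rfl⟩))
    refine ⟨g * g', ?_⟩
    rw [map_mul, e]
    convert c using 1
    group⟩
  have E3 : E m := ⟨hm, fun s hs t ht ⟨g, u, hu, v, hv, u', hu', e⟩ => by
    obtain ⟨g', e'⟩ := h.range_norm s hs _ ⟨g, rfl⟩
    refine ⟨g', _, h.nQ s (h.HL hs) u hu, _, h.nQ' s (h.HL hs) v hv, _, h.nQ _ (h.HL (cj hm hs)) u' hu', ?_⟩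
    rw [e', ← mul_assoc t, ← cm hs ht]
    calc m = s * m * (m⁻¹ * s * m⁻¹⁻¹)⁻¹ := by group
      _ = s * (u * v * (ψ g * t) * u') * (m⁻¹ * s * m⁻¹⁻¹)⁻¹ := by rw [← e]
      _ = _ := by group⟩
  have E4 : ∀ j, E ((m * ψ slW) ^ j) ∧ S.Acts ((m * ψ slW) ^ j : M) ((w * T.sw b) ^ j) := fun j => by
    induction j with
    | zero => exact ⟨⟨by simp, fun s _ t _ c => by simpa using c⟩, by simpa using acts_one⟩
    | succ j ih =>
      rw [pow_succ, pow_succ]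
      exact ⟨E1 _ _ ih.1 (E1 _ _ E3 E2),
        acts_mul' (mul_mem hw (T.sw_mem b).1) ih.2 (acts_mul' (T.sw_mem b).1 ha h.ab)⟩
  intro d hd
  obtain ⟨j, hj⟩ := h.odd (s := σ⁻¹ * d) (mul_mem (inv_mem hσ) hd)
  have hs : (((σ⁻¹ * d) ^ (j + 1) : M) : G) ∈ S.H := pow_mem (mul_mem (inv_mem hσ) hd) _
  have e1 : (σ⁻¹ * d) ^ (j + 1) * (σ⁻¹ * d) ^ (j + 1) = σ⁻¹ * d := by
    rw [← pow_add, show j + 1 + (j + 1) = 2 * j + 1 + 1 by ring, pow_succ, ← hj, pow_orderOf_eq_one, one_mul]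
  generalize (σ⁻¹ * d) ^ (j + 1) = s at hs e1
  have e2 : (m * ψ slW) ^ k * s⁻¹ * ((m * ψ slW) ^ k)⁻¹ = s⁻¹⁻¹ :=
    Subtype.ext (h.tw.sharp.conj_eq_inv (E4 k).1.1 (E4 k).2 hk (inv_mem hs))
  have := (E4 k).1.2 s hs σ hσ ⟨1, by simpa using c⟩
  rwa [show ((m * ψ slW) ^ k)⁻¹ * s * ((m * ψ slW) ^ k)⁻¹⁻¹ = s⁻¹ by
    conv_lhs => rw [← inv_inv s, ← e2]
    group, inv_inv, e1, mul_inv_cancel_left] at this

theorem cell_a {g : M} (hg : (g : G) ∈ S.N) (h1 : ∀ u ∈ Z S ρ [7], g * u * (g : G)⁻¹ ∈ Z S ρ [1, 2, 3, 4, 5, 6, 7])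
    (h2 : ∀ u ∈ Z S ρ [15], g * u * (g : G)⁻¹ ∈ Z S ρ [9, 10, 11, 12, 13, 14, 15]) :
    ∃ σ : M, (σ : G) ∈ S.H ∧ Cell Q Q' σ (g * n * g⁻¹) := by
  obtain ⟨u, v, s, u', k1, k2, -, k3, k4, e⟩ := h.gauss
  exact ⟨g * s * g⁻¹, h.tw.sharp.conj_mem_H hg k3, g * u * g⁻¹, h1 _ k1, g * v * g⁻¹, h2 _ k2, g * u' * g⁻¹,
    h1 _ k4, by rw [e]; group⟩

omit h in
theorem w_eq' : ψ slW = ψ (slX 1) * ψ (slY (-1)) * ψ (slX 1) := by
  simpa using congrArg ψ (slW_gauss (F := K) 1)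

omit h in
theorem w_eq (g : M) : g * ψ slW * g⁻¹ =
    g * ψ (slX 1) * g⁻¹ * (g * ψ (slY (-1)) * g⁻¹) * (g * ψ (slX 1) * g⁻¹) := by
  rw [w_eq']
  group

theorem cell_b {g : M} (h1 : ∀ u ∈ Z S ρ [0], g * u * (g : G)⁻¹ ∈ Z S ρ [1, 2, 3, 4, 5, 6, 7])
    (h2 : ∀ u ∈ Z S ρ [8], g * u * (g : G)⁻¹ ∈ Z S ρ [9, 10, 11, 12, 13, 14, 15]) :
    Cell Q Q' 1 (g * ψ slW * g⁻¹) :=
  ⟨g * ψ (slX 1) * g⁻¹, h1 _ (h.xb 1), g * ψ (slY (-1)) * g⁻¹, h2 _ (h.yb (-1)), g * ψ (slX 1) * g⁻¹,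
    h1 _ (h.xb 1), by rw [mul_one]; exact w_eq g⟩

theorem c3 {A C : List (Fin 16)} (o : ∀ x ∈ A, 6 - (8 - (6 - x)) ∈ C) {u : G} (hu : u ∈ Z S ρ A) :
    (n * ψ slW * n : M) * u * ((n * ψ slW * n : M) : G)⁻¹ ∈ Z S ρ C :=
  Z_acts (acts_mul' (T.sw_mem a).1 (acts_mul' (T.sw_mem b).1 h.aa h.ab) h.aa)
    (f := fun x => 6 - (8 - (6 - x))) (fun r => by simp only [Equiv.Perm.mul_apply, h.sa, h.sb]) o hu

theorem acts_e : S.Acts ((ee : M) : G) (T.sw a * T.sw b * T.sw a * T.sw b * T.sw a * T.sw b * T.sw a) := by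
  have hW := fun c => (T.sw_mem c).1
  have := acts_mul' (hW a) (acts_mul' (hW b) (acts_mul' (hW a) (acts_mul' (hW b) (acts_mul' (hW a)
    (acts_mul' (hW b) h.aa h.ab) h.aa) h.ab) h.ai) h.bi) h.ai
  simpa [mul_assoc] using this

theorem e_mem : ((ee : M) : G) ∈ S.N :=
  mul_mem (mul_mem (mul_mem (mul_mem h.na h.nb) h.na) h.nb) (inv_mem (mul_mem (mul_mem h.na h.nb) h.na))

theorem cψ (g m : SL(2, K)) : Commute (n * ψ slW * n * ψ g * (n * ψ slW * n)⁻¹) (ψ m) :=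
  Subtype.ext (h.commute (h.c3 (by decide) (h.ψ_mem g)) (h.ψ_mem m)).eq

theorem cell_w : ∃ s ∈ S.H.subgroupOf M, Cell Q Q' (ψ slW * s) ee := by
  have hW := fun c => (T.sw_mem c).1
  have k0 := mul_mem (mul_mem (mul_mem (mul_mem (mul_mem (mul_mem (mul_mem (hW a) (hW b))
    (hW a)) (hW b)) (hW a)) (hW b)) (hW a)) (hW b)
  have k1 := acts_mul' (hW b) h.acts_e h.ab
  have k4 := acts_mul' (hW a) (acts_mul' k0 h.aa k1) h.ai
  rw [show T.sw a * (T.sw a * T.sw b * T.sw a * T.sw b * T.sw a * T.sw b * T.sw a * T.sw b) * T.sw a =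
    T.sw a * T.sw b * T.sw a * T.sw b * T.sw a * T.sw b * T.sw a * T.sw b from Equiv.ext fun r => by
      simp only [Equiv.Perm.mul_apply, h.w0, Φ.apply_neg (hW a)]
      rw [← Equiv.Perm.mul_apply, T.sw_mul_self, Equiv.Perm.one_apply]] at k4
  have k2 : (((n * (ee * ψ slW) * n⁻¹)⁻¹ * (ee * ψ slW) : M) : G) ∈ S.H :=
    h.tw.sharp.inv_mul_mem_H (mul_mem (mul_mem h.na (mul_mem h.e_mem h.nb)) (inv_mem h.na))
      (mul_mem h.e_mem h.nb) k0 k4 k1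
  have k3 : Cell Q Q' 1 (n * (ee * ψ slW) * n⁻¹) := by
    have e1 := comm_aux (d := 1) ((w_eq (ψ := ψ) (n * ψ slW * n)).trans
      (congrArg (· * _) (mul_one _).symm)) w_eq'
      (h.cψ _ _) (h.cψ _ _) (h.cψ _ _)
    have x1 := Z_mono (B := [0, 4]) (by decide) (h.xb 1)
    have x2 := h.c3 (C := [0, 4]) (by decide) (h.xb 1)
    refine ⟨n * (ψ (slX 1) * (n * ψ slW * n * ψ (slX 1) * (n * ψ slW * n)⁻¹)) * n⁻¹,
      h.ca (A := [0, 4]) (by decide) (mul_mem x1 x2),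
      n * (ψ (slY (-1)) * (n * ψ slW * n * ψ (slY (-1)) * (n * ψ slW * n)⁻¹)) * n⁻¹,
      h.ca (A := [8, 12]) (by decide)
        (mul_mem (Z_mono (by decide) (h.yb (-1))) (h.c3 (by decide) (h.yb (-1)))),
      n * (n * ψ slW * n * ψ (slX 1) * (n * ψ slW * n)⁻¹ * ψ (slX 1)) * n⁻¹,
      h.ca (A := [0, 4]) (by decide) (mul_mem x2 x1), ?_⟩
    rw [e1]
    group
  refine ⟨(ψ slW)⁻¹ * _ * (ψ slW)⁻¹⁻¹ * (ψ (slW * slW))⁻¹, mul_mem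
    (h.tw.sharp.conj_mem_H (inv_mem h.nb) k2) (inv_mem (slW_mul_self (F := K) ▸ h.dψ _)), ?_⟩
  convert k3.mul (h.nQ _ (inv_mem (mul_mem (h.HL k2) (inv_mem (h.ψL slW))))) using 1
  · simp only [map_mul]
    group
  · group

theorem cells [Finite K] [CharP K 2] {g : M} (hg : g ≠ 1) : ∃ k m, ∃ l ∈ h.L, ∃ q ∈ Q, k * g * k⁻¹ = m * l * q ∧
    (m = ee ∨ (∀ d ∈ S.H.subgroupOf M, ∃ x, Cell Q Q' (ψ x * d) m) ∧ ∀ c, m⁻¹ * ψ (slX c) * m ∈ Q) := by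
  have hW := fun c => (T.sw_mem c).1
  obtain ⟨k, hk⟩ := h.core hg
  obtain ⟨u, hu, m, hn, w, hw, ha, u', hu', e1⟩ := h.tw.bruhat (k * g * k⁻¹).2
  obtain ⟨x, hx, y, hy, d, hd, rfl⟩ := h.dc hw
  have k1 : ∀ x, x = 1 ∨ x = T.sw b → ∃ X ∈ h.P, (X : G) ∈ S.N ∧ S.Acts X x ∧ x ∈ Φ.W := by
    rintro x (rfl | rfl)
    exacts [⟨1, one_mem _, one_mem _, acts_one, one_mem _⟩, ⟨_, le_prod_right (h.ψL slW), h.nb, h.ab, hW b⟩]
  obtain ⟨X, hX, X1, X2, -⟩ := k1 x hx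
  obtain ⟨Y, hY, Y1, Y2, Y3⟩ := k1 y hy
  have k2 : ∀ {D σ : M} {d}, (D : G) ∈ S.N → d ∈ Φ.W → S.Acts D d → ∀ k : ℕ,
      (∀ r, ((d * T.sw b) ^ k) r = Φ.neg r) → (σ : G) ∈ S.H → Cell Q Q' σ D → d⁻¹ = d → ∀ {f : Fin 16 → Fin 16},
      (∀ r, ρ (d r) = f (ρ r)) → f 0 ∈ [1, 2, 3, 4, 5, 6, 7] → ∃ D : M, (D : G) ∈ S.N ∧ S.Acts D d ∧ d ∈ Φ.W ∧
        (D = 1 ∨ D = ee ∨ (∀ d ∈ S.H.subgroupOf M, ∃ m, Cell Q Q' (ψ m * d) D) ∧
          ∀ c, D⁻¹ * ψ (slX c) * D ∈ Q) := fun {D σ d} a1 a2 a3 k a4 a5 a6 a7 f a8 a9 =>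
    ⟨D, a1, a3, a2, Or.inr (Or.inr ⟨h.fam a1 a2 a3 k a4 a5 a6, fun c => by
      have := Z_acts (B := [1, 2, 3, 4, 5, 6, 7]) (a7 ▸ acts_inv' a2 a3) a8
        (fun x hx => List.mem_singleton.1 hx ▸ a9) (h.xb c)
      rwa [inv_inv] at this⟩)⟩
  obtain ⟨D, D1, D2, D3, hD⟩ : ∃ D : M, (D : G) ∈ S.N ∧ S.Acts D d ∧ d ∈ Φ.W ∧ (D = 1 ∨ D = ee ∨
      (∀ d ∈ S.H.subgroupOf M, ∃ m, Cell Q Q' (ψ m * d) D) ∧ ∀ c, D⁻¹ * ψ (slX c) * D ∈ Q) := by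
    rcases hd with rfl | rfl | rfl | rfl | rfl
    · exact ⟨1, one_mem _, acts_one, one_mem _, Or.inl rfl⟩
    · obtain ⟨σ, s1, s2⟩ := h.cell_a (g := 1) (one_mem _) (fun u hu => by simpa using Z_mono (by decide) hu)
        fun u hu => by simpa using Z_mono (by decide) hu
      exact k2 h.na (hW a) h.aa 4 (by simpa [pow_succ] using h.w0) s1 (by simpa using s2) (T.sw_inv a) h.sa
        (by decide)
    · exact k2 (mul_mem (mul_mem h.na h.nb) (inv_mem h.na)) (mul_mem (mul_mem (hW a) (hW b)) (hW a))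
        (acts_mul' (hW a) (acts_mul' (hW b) h.aa h.ab) h.ai) 2 (by simpa [pow_succ] using h.w0) (one_mem _)
        (h.cell_b (g := n) (fun u hu => h.ca (by decide) hu) fun u hu => h.ca (by decide) hu)
        (by simp [Sym.sw_inv, mul_assoc]) (f := fun x => 6 - (8 - (6 - x)))
        (fun r => by simp only [Equiv.Perm.mul_apply, h.sa, h.sb]) (by decide)
    · obtain ⟨σ, s1, s2⟩ := h.cell_a (g := n * ψ slW) (mul_mem h.na h.nb)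
        (fun u hu => by simpa [mul_assoc] using h.ca (by decide) (h.cb (C := [1]) (by decide) hu))
        fun u hu => by simpa [mul_assoc] using h.ca (by decide) (h.cb (C := [9]) (by decide) hu)
      exact k2 (mul_mem (mul_mem (mul_mem h.na h.nb) h.na) (inv_mem (mul_mem h.na h.nb)))
        (mul_mem (mul_mem (mul_mem (mul_mem (hW a) (hW b)) (hW a)) (hW b)) (hW a)) (by
          simpa [mul_assoc] using acts_mul' (hW a) (acts_mul' (hW b) (acts_mul' (hW a)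
            (acts_mul' (hW b) h.aa h.ab) h.aa) h.bi) h.ai) 4
        (by simp [pow_succ, h.w0, Φ.neg_neg]) s1 s2 (by simp [Sym.sw_inv, mul_assoc])
        (f := fun x => 6 - (8 - (6 - (8 - (6 - x)))))
        (fun r => by simp only [Equiv.Perm.mul_apply, h.sa, h.sb]) (by decide)
    · exact ⟨_, h.e_mem, h.acts_e, mul_mem (mul_mem (mul_mem (mul_mem (mul_mem (mul_mem (hW a) (hW b)) (hW a))
        (hW b)) (hW a)) (hW b)) (hW a), Or.inr (Or.inl rfl)⟩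
  let U₁ : M := ⟨u, h.tw.U_le hu⟩
  let U₂ : M := ⟨u', h.tw.U_le ⟨UU_Inv_le_U S _ hu'.1, hu'.2⟩⟩
  let s : M := (X * D * Y)⁻¹ * ⟨m, hn.2⟩
  have hs : s ∈ h.P := le_prod_right (h.HL (h.tw.sharp.inv_mul_mem_H (mul_mem (mul_mem X1 D1) Y1) hn.1
    hw.1 (acts_mul' Y3 (acts_mul' D3 X2 D2) Y2) ha))
  have h1 : U₁ ∈ h.P := h.U_le_P hu.1
  have h2 : U₂ ∈ h.P := h.U_le_P (UU_Inv_le_U S _ hu'.1)
  have e2 : k * g * k⁻¹ = U₁ * (X * D * Y * s) * U₂ := Subtype.ext (by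
    rw [e1, mul_inv_cancel_left]; rfl)
  rcases hD with rfl | hD
  · exact absurd (e2 ▸ mul_mem (mul_mem h1 (mul_mem (mul_mem (mul_mem hX (one_mem _)) hY) hs)) h2) hk
  obtain ⟨q, hq, l, hl, e3⟩ := mul_mem (mul_mem (mul_mem (mul_mem hY hs) h2) h1) hX
  refine ⟨(U₁ * X)⁻¹ * k, D, l, hl, _, h.nQ _ (inv_mem hl) q hq, ?_, hD⟩
  calc _ = (U₁ * X)⁻¹ * (k * g * k⁻¹) * (U₁ * X) := by group
    _ = D * (Y * s * U₂ * U₁ * X) := by rw [e2]; group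
    _ = _ := by rw [e3]; group

theorem par [Finite K] [CharP K 2] {Θ : Kˣ →* M} (h1 : ∀ c, (Θ c : G) ∈ S.H)
    (h2 : ∀ c g, Θ c * ψ g * (Θ c)⁻¹ = ψ (sl2Conj c g)) :
    Par ψ Θ (S.H.subgroupOf M) h.L Q Q' ee where
  T_le _ hs := h.HL hs
  ψ_mem := h.ψL
  Θ_mem := h1
  d_mem := h.dψ
  T_comm _ ha _ hb := Subtype.ext (h.tw.sharp.H_comm ha hb)
  dec := by
    rintro _ ⟨_, ⟨m, rfl⟩, s, hs, rfl⟩
    exact ⟨m, s, hs, rfl⟩
  T_act := h.act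
  Θ_act := h2
  nQ := h.nQ
  nQ' := h.nQ'
  e_ψ := h.cψ _
  e_Q q hq := Z_acts h.acts_e (f := fun x => 6 - (8 - (6 - (8 - (6 - (8 - (6 - x)))))))
    (fun r => by simp only [Equiv.Perm.mul_apply, h.sa, h.sb]) (by decide) hq
  inv0 s hs := Subtype.ext (h.tw.sharp.conj_eq_inv (mul_mem h.e_mem h.nb)
    (acts_mul' (T.sw_mem b).1 h.acts_e h.ab) h.w0 hs)
  cells _ := h.cells
  odd h3 := absurd CharTwo.two_eq_zero h3
  even _ := ⟨⟨1, one_mem _, fun _ => Commute.one_left _,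
    h.cell_b (fun _ => h.c3 (by decide)) fun _ => h.c3 (by decide)⟩, h.cell_w, fun _ => h.odd⟩

theorem main [Finite K] [Finite M] [CharP K 2] (hc : (Nat.card K + 1).Coprime (Nat.card Kˣ)) {z : M}
    (hz : (z : G) ∈ S.H) {l : ι → K} (e1 : ∀ s t, z * S.x s t * (z : G)⁻¹ = S.x s (l s * t))
    (l0 : ∀ r, ρ r ∈ [0, 8] → l r = 1) (l1 : ∀ r, ρ r ∈ [1, 2, 3, 4, 5, 6, 7] → l r ≠ 1) :
    ∃ x : M, Odd (orderOf x) ∧ ∀ g : M, g ≠ 1 → ∃ u v : M, g = (u * x * u⁻¹) * (v * x * v⁻¹) := by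
  have h0 : (2 : K) = 0 := CharTwo.two_eq_zero
  let sq : Kˣ ≃* Kˣ := MulEquiv.ofBijective (powMonoidHom 2) (Finite.surjective_iff_bijective.1 fun c =>
    (exists_sqrt h0 c).imp fun _ e => (sq _).trans e)
  let Θ : Kˣ →* M := ψ.comp (sl2Diag.comp sq.symm.toMonoidHom)
  have h1 : ∀ c, (Θ c : G) ∈ S.H := fun c => h.dψ _
  have h2 : ∀ c g, Θ c * ψ g * (Θ c)⁻¹ = ψ (sl2Conj c g) := fun c g => by
    conv_rhs => rw [← sq.apply_symm_apply c, show sq (sq.symm c) = sq.symm c * sq.symm c from pow_two _,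
      ← conj_diag, map_mul, map_mul, map_inv]
    rfl
  have hP := h.par h1 h2
  obtain ⟨t, t0, t4, ht⟩ := exists_t_even h0
  have z3 : ∀ m, Commute z (ψ m) := fun m => Subtype.ext (Subgroup.mem_centralizer_singleton_iff.1
    (S.UU_le_iff.2 (fun r hr u => Subgroup.mem_centralizer_singleton_iff.2 (by
      rw [mul_inv_eq_iff_eq_mul.1 (e1 r u), l0 r hr, one_mul])) (h.ψ_mem m))).symm
  have z4 : Commute z (chi ψ Θ h2 (xh t)) := (z3 _).mul_right (hP.T_comm _ hz _ (h1 _))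
  have z5 : z ^ Nat.card Kˣ = 1 := Subtype.ext (h.tw.sharp.H_pow_card hz)
  have z6 : chi ψ Θ h2 (xh t) ^ (Nat.card K + 1) = 1 := by rw [← map_pow, ht, map_one]
  refine ⟨z * chi ψ Θ h2 (xh t), Nat.odd_iff.2 (Nat.two_dvd_ne_zero.1 fun hp => ?_),
    fun g => hP.main t0 t4 hz z3 (fun h => absurd h0 h) rfl fun v hv c => ?_⟩
  · rcases (Nat.Prime.dvd_mul Nat.prime_two).1 (hp.trans z4.orderOf_mul_dvd_mul_orderOf) with hp | hp
    · exact (h.odd hz).not_two_dvd_nat hp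
    · exact not_dvd_xh 2 t4 (hp.trans (orderOf_map_dvd _ _))
  · obtain ⟨k, hk⟩ : z ∈ Subgroup.zpowers (z * chi ψ Θ h2 (xh t)) := by
      refine (Subgroup.zpowers_le_of_mem (Subgroup.npow_mem_zpowers _ (Nat.card K + 1))) ?_
      rw [z4.mul_pow, z6, mul_one, mem_zpowers_pow_iff]
      exact hc.coprime_dvd_right (orderOf_dvd_of_pow_eq_one z5)
    exact Subtype.ext (h.rr.eq_one h.nd (by decide) (by decide) e1 l1 hv (mul_inv_eq_iff_eq_mul.2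
      (congrArg Subtype.val (hk ▸ c.zpow_left k : Commute z v).eq)))

end Oct

end CfsgLib.TH2
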