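import Cfsg.Agent.Lib.TH2.Oct
import Cfsg.Agent.Lib.TH2.Inst
import Cfsg.Agent.Lib.TwMult.F4P

/-!
# The groups `²F₄(q)`, `q > 2`
-/

set_option autoImplicit false

namespace CfsgLib.TH2

open CfsgLib.RGD CfsgLib.Twist CfsgLib.TwMult CfsgLib.LieMult CfsgLib.Chev CfsgLib.Classical CfsgLib.Weyl
open Cfsg.Lie
open scoped MatrixGroups

/-- the relative roots of `²F₄` -/
def rF (r : Fin chevF4.nroots) : Fin 16 :=
  [11, 13, 12, 11, 10, 9, 11, 13, 12, 10, 14, 9, 13, 9, 8, 14, 13, 15, 11, 15, 15, 9, 15, 8, 0, 7, 1, 7, 7, 3, 7,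
    5, 6, 0, 1, 5, 1, 6, 2, 4, 5, 3, 1, 2, 3, 4, 5, 3].getD r 0

theorem F4 {K : Type*} [Field K] [Fintype K] {m : ℕ} (hm : 1 ≤ m) (hK : Fintype.card K = 2 ^ (2 * m + 1)) :
    ∃ x : twistedF4 K (2 ^ m), Odd (orderOf x) ∧ ∀ g : twistedF4 K (2 ^ m), g ≠ 1 →
      ∃ u v : twistedF4 K (2 ^ m), g = (u * x * u⁻¹) * (v * x * v⁻¹) := by
  obtain ⟨_, θ, he, hθ⟩ := exists_theta hK
  have h4 : 4 < Fintype.card K := hK ▸ lt_of_lt_of_le (by norm_num)
    (Nat.pow_le_pow_right (by norm_num) (show 3 ≤ 2 * m + 1 by omega))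
  have hM := isTwF4 he hθ
  obtain ⟨ψ, h1, -, h2⟩ := (hasSL2_stSys rtOKF4 K).rk_pair hM (b := 0) (RingHom.id K) piF4.2.2.2 piF4.1 orthF4
    (twF4_f03 θ hθ) posJF4_0' Function.surjective_id
  obtain ⟨n, n1, n2⟩ := exists_levi_n hM 1
  have sw : ∀ b r, (twF4 θ hθ).sw b r = ⟨actT tSwF4 b r, swF4 b r ▸ (symF4.sw b r).2⟩ := fun b r =>
    Fin.ext (swF4 b r)
  have hx : Oct (twF4 θ hθ) (twistedF4 K (2 ^ m)) 1 0 rF ψ n :=
    { tw := hM
      nd := stSys_nondeg _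
      rr := rr16 (ndF4 1) (ndF4 2) (by decide +kernel) (by decide +kernel)
        (by simp only [pos_iff_le]; decide +kernel)
      all := by decide
      Jb := fun r => (posJF4_0 r).trans (by revert r; decide +kernel)
      Ja := fun r => (posJF4_1 r).trans (by revert r; decide +kernel)
      sa := by simp only [sw]; decide +kernel
      sb := by simp only [sw]; decide +kernel
      w0 := by simp only [sw]; decide +kernel
      rψ := h1
      na := n1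
      aa := n2
      act := h2
      comm := fun r hr s hs t u => commF4 r s t u ⟨r.2, s.2, (by decide +kernel : ∀ r, rF r ∈ [4, 12] →
        ∀ s, rF s ∈ [0, 8] → (s : ℕ) ≠ chevF4.neg r ∧ ∀ c ∈ chevF4.commTerms r s, c.2.1 % 2 = 0) r hr s hs⟩
      simple := (simpleF4 he hθ h4.le).1 }
  obtain ⟨u, hu⟩ := exists_ne_oneF4 hθ h4 (1, 0) (by decide)
  obtain ⟨c, c1, c2⟩ := torF4 θ hθ [1, 0, 2, 0] u
  obtain ⟨z, z1, z2⟩ := exists_torus hM.sharp c1
  have k : ∀ x, gdF4 x → u ^ x.1 * psiF4 θ u ^ x.2 ≠ 1 := fun x hx e =>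
    hu (by simp [show u = 1 from injF4 θ hθ hx (by simpa using e)])
  refine hx.main (cop CharTwo.two_eq_zero (by
    rw [card_units', Nat.card_eq_fintype_card, show Fintype.card K - 1 + 2 = Fintype.card K + 1 by omega]))
    (z := ⟨z, H_leF4 he hθ z1⟩) z1.1 z2 (fun r hr => ?_) fun r hr e => ?_
  · rw [c2, (by decide +kernel : ∀ r, rF r ∈ [0, 8] → patF4 [1, 0, 2, 0] r = (0, 0)) r hr]
    simp
  · rw [c2, Units.val_eq_one] at e
    rcases (by decide +kernel : ∀ r, rF r ∈ [1, 2, 3, 4, 5, 6, 7] → gdF4 (patF4 [1, 0, 2, 0] r) ∨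
      patF4 [1, 0, 2, 0] r = (4, -2)) r hr with h | h
    · exact k _ h e
    · refine k (2, -1) (by decide) (Units.ext (CharTwo.sq_injective ?_))
      have e' : (u ^ (2 : ℤ) * psiF4 θ u ^ (-1 : ℤ)) ^ 2 = 1 := by
        rw [← e, h, mul_pow]; group
      simpa using congrArg Units.val e'

end CfsgLib.TH2
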